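import Groth.Agent.L29.Dual.HomD
import Groth.Agent.L10.DerTrunc

/-!
Maps from a complex in degrees `≤ 0` to one in degrees `≥ 0`.
-/

set_option autoImplicit false
set_option backward.defeqAttrib.useBackward true
set_option backward.isDefEq.respectTransparency false
set_option backward.isDefEq.respectTransparency.types false
set_option linter.style.haveILetI false

universe v u

open CategoryTheory CategoryTheory.Limits CategoryTheory.Pretriangulated DerivedCategory

attribute [local instance] HasDerivedCategory.standard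

noncomputable section

namespace Groth.L10.TopDual

section Gen

universe v' u'

variable {C : Type u'} [Category.{v'} C] [Abelian C]

/-- the functor `H⁰` is bijective on maps from degrees `≤ 0` to degrees `≥ 0` -/
theorem H0_bijective [HasDerivedCategory C] (N M : DerivedCategory C) [N.IsLE 0] [M.IsGE 0] :
    Function.Bijective fun v : N ⟶ M => (homologyFunctor C 0).map v := by
  let t := DerivedCategory.TStructure.t (C := C)
  let H := homologyFunctor C 0
  haveI : t.IsLE N 0 := ‹N.IsLE 0›
  haveI : t.IsGE M 0 := ‹M.IsGE 0›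
  let π := (t.truncGEπ 0).app N
  let W := (t.truncGE 0).obj N
  haveI hiso : IsIso (H.map π) := Groth.L10.isIso_H_π (A := C) 0 0 le_rfl N
  haveI : W.IsGE 0 := inferInstanceAs (t.IsGE W 0)
  haveI : W.IsLE 0 := (DerivedCategory.isLE_iff _ _).2 fun i hi => by
    have := Groth.L10.isIso_H_π (A := C) 0 i (by omega) N
    exact (DerivedCategory.isZero_of_isLE N 0 i hi).of_iso
      (asIso ((DerivedCategory.homologyFunctor C i).map π)).symm
  let ι := (t.truncLTι 1).app M
  let V := (t.truncLT 1).obj M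
  haveI hι : IsIso (H.map ι) := Groth.L10.isIso_H_ι (A := C) 1 0 (by omega) M
  haveI : V.IsLE 0 := t.isLE_truncLT_obj _ _ _ (by omega)
  haveI : V.IsGE 0 := (DerivedCategory.isGE_iff _ _).2 fun i hi => by
    have := Groth.L10.isIso_H_ι (A := C) 1 i (by omega) M
    exact (DerivedCategory.isZero_of_isGE M 0 i hi).of_iso
      (asIso ((DerivedCategory.homologyFunctor C i).map ι))
  obtain ⟨eW⟩ := Groth.L10.exists_iso_single_H (A := C) W 0
  obtain ⟨eV⟩ := Groth.L10.exists_iso_single_H (A := C) V 0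
  let S := DerivedCategory.singleFunctor C 0
  let σ := singleFunctorCompHomologyFunctorIso C 0
  -- maps between heart objects are detected by `H⁰`
  have hheart : Function.Bijective fun w : W ⟶ V => H.map w := by
    have h1 : ∀ a : H.obj W ⟶ H.obj V, H.map (eW.hom ≫ S.map a ≫ eV.inv) =
        H.map eW.hom ≫ ((σ.app _).hom ≫ a ≫ (σ.app _).inv) ≫ H.map eV.inv := fun a => by
      rw [Functor.map_comp, Functor.map_comp]
      exact congrArg (fun z => H.map eW.hom ≫ z ≫ H.map eV.inv) (NatIso.naturality_2 σ a).symm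
    have hS : ∀ w : W ⟶ V, ∃ a, w = eW.hom ≫ S.map a ≫ eV.inv := fun w => by
      obtain ⟨a, ha⟩ := S.map_surjective (eW.inv ≫ w ≫ eV.hom)
      exact ⟨a, by simp [ha]⟩
    refine ⟨fun w w' h => ?_, fun g => ?_⟩
    · obtain ⟨a, rfl⟩ := hS w
      obtain ⟨a', rfl⟩ := hS w'
      dsimp only at h
      rw [h1, h1, cancel_epi, cancel_mono, cancel_epi, cancel_mono] at h
      rw [h]
    · refine ⟨eW.hom ≫ S.map ((σ.app _).inv ≫ H.map eW.inv ≫ g ≫ H.map eV.hom ≫ (σ.app _).hom) ≫ eV.inv, ?_⟩
      dsimp only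
      rw [h1]
      simp only [Category.assoc]
      erw [Iso.hom_inv_id_assoc, Iso.hom_inv_id_assoc]
      rw [← Functor.map_comp_assoc, eW.hom_inv_id, CategoryTheory.Functor.map_id, Category.id_comp,
        ← Functor.map_comp, eV.hom_inv_id, CategoryTheory.Functor.map_id, Category.comp_id]
  -- factor every map through the heart
  have hfac : ∀ v : N ⟶ M, ∃ w : W ⟶ V, v = π ≫ w ≫ ι := fun v => by
    have h0 : (t.truncLTι 0).app N ≫ v = 0 := by
      haveI : t.IsLE ((t.truncLT 0).obj N) (-1) := t.isLE_truncLT_obj _ _ _ (by omega)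
      exact t.zero _ (-1) 0 (by omega)
    obtain ⟨u, hu⟩ : ∃ u : W ⟶ M, v = π ≫ u := Triangle.yoneda_exact₂ _ (t.triangleLTGE_distinguished 0 N) v h0
    have h1 : u ≫ (t.truncGEπ 1).app M = 0 := by
      haveI : t.IsLE W 0 := inferInstanceAs (W.IsLE 0)
      exact t.zero _ 0 1 (by omega)
    obtain ⟨w, hw⟩ : ∃ w : W ⟶ V, u = w ≫ ι := Triangle.coyoneda_exact₂ _ (t.triangleLTGE_distinguished 1 M) u h1
    exact ⟨w, by rw [hu, hw]⟩
  refine ⟨fun v v' h => ?_, fun g => ?_⟩
  · obtain ⟨w, rfl⟩ := hfac v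
    obtain ⟨w', rfl⟩ := hfac v'
    dsimp only at h
    rw [Functor.map_comp, Functor.map_comp, Functor.map_comp, Functor.map_comp, cancel_epi, cancel_mono] at h
    rw [hheart.1 h]
  · obtain ⟨w, hw⟩ := hheart.2 (inv (H.map π) ≫ g ≫ inv (H.map ι))
    refine ⟨π ≫ w ≫ ι, ?_⟩
    dsimp only at hw ⊢
    rw [Functor.map_comp, Functor.map_comp, hw]
    simp only [Category.assoc]
    erw [IsIso.hom_inv_id_assoc]
    rw [IsIso.inv_hom_id]
    exact Category.comp_id g

end Gen

open Groth.L29.HomD

variable {A : Type u} [CommRing A]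

theorem evalOne_comp {N M : Dual.D A} (y : Dual.inD A A ⟶ N) (v : N ⟶ M) :
    evalOne M (y ≫ v) = (DerivedCategory.homologyFunctor (ModuleCat.{u} A) 0).map v (evalOne N y) := by
  change (DerivedCategory.homologyFunctor (ModuleCat.{u} A) 0).map (y ≫ v) one = _
  rw [Functor.map_comp]
  rfl

/-- maps from degrees `≤ 0` to degrees `≥ 0` are the linear maps on `Hom(A, -)` -/
theorem existsUnique_hom (N M : Dual.D A) [N.IsLE 0] [M.IsGE 0]
    (l : (Dual.inD A A ⟶ N) →ₗ[A] (Dual.inD A A ⟶ M)) :
    ∃! v : N ⟶ M, ∀ y : Dual.inD A A ⟶ N, y ≫ v = l y := by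
  let g : (DerivedCategory.homologyFunctor (ModuleCat.{u} A) 0).obj N ⟶
      (DerivedCategory.homologyFunctor (ModuleCat.{u} A) 0).obj M :=
    ModuleCat.ofHom ((evalEquiv M).toLinearMap ∘ₗ l ∘ₗ (evalEquiv N).symm.toLinearMap)
  have hg : ∀ v : N ⟶ M, (∀ y, y ≫ v = l y) ↔
      (DerivedCategory.homologyFunctor (ModuleCat.{u} A) 0).map v = g := fun v => by
    constructor
    · intro hv
      refine ModuleCat.hom_ext (LinearMap.ext fun z => ?_)
      obtain ⟨y, rfl⟩ := (evalOne_bijective N).2 z
      refine (evalOne_comp y v).symm.trans ?_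
      rw [hv y]
      exact congrArg (fun q => evalEquiv M (l q)) ((evalEquiv N).symm_apply_apply y).symm
    · intro hv y
      refine (evalOne_bijective M).1 ((evalOne_comp y v).trans ?_)
      rw [hv]
      exact congrArg (fun q => evalEquiv M (l q)) ((evalEquiv N).symm_apply_apply y)
  obtain ⟨v, hv⟩ := (H0_bijective (C := ModuleCat.{u} A) N M).2 g
  exact ⟨v, (hg v).2 hv, fun v' hv' => (H0_bijective (C := ModuleCat.{u} A) N M).1 (((hg v').1 hv').trans hv.symm)⟩

end Groth.L10.TopDual
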