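import Groth.Agent.L10.TopDual.Ev
import Groth.Agent.L10.TopDual.Alg
import Groth.Agent.L29.BCAdj.HomFinite
import Groth.Agent.L29.DCoh.Gen.Amp
import Groth.Agent.L29.DCoh.Cpt.QCoh
import Groth.Agent.L26.Pic0.Edge
import Groth.Agent.L00.KFlatDerived

/-!
Duality in the top degree: maps into the lowest cohomology of the twisted inverse image are functionals on `H^d`.
-/

set_option autoImplicit false
set_option backward.defeqAttrib.useBackward true
set_option backward.isDefEq.respectTransparency false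
set_option backward.isDefEq.respectTransparency.types false
set_option linter.style.haveILetI false
universe u

open CategoryTheory CategoryTheory.Limits CategoryTheory.Pretriangulated CategoryTheory.Abelian AlgebraicGeometry
  DerivedCategory
attribute [local instance] HasDerivedCategory.standard

noncomputable section

namespace Groth.L10.TopDual

open Groth.L16.CohLinear (hmap hmap_comp)
open Groth.L29.BCAdj (OD)
open Groth.L29.DC
open Groth.L21.CurveDual (ev ev_natural)

variable {X : Scheme.{u}}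

/-- maps from a shifted module into a complex in degrees `≥ -d` factor uniquely through the lowest cohomology -/
theorem exists_bottom (K : DCoh.D X) (d : ℕ) (hK : K.IsGE (-(d : ℤ))) :
    ∃ j : (DCoh.inD X (DCoh.HD K (-(d : ℤ))))⟦(d : ℤ)⟧ ⟶ K, ∀ F : X.Modules,
      Function.Bijective fun φ : F ⟶ DCoh.HD K (-(d : ℤ)) =>
        (((DerivedCategory.singleFunctor X.Modules 0).map φ)⟦(d : ℤ)⟧' ≫ j) := by
  let t := DerivedCategory.TStructure.t (C := X.Modules)
  let W := (t.truncLT (-(d : ℤ) + 1)).obj K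
  have hWle : W.IsLE (-(d : ℤ)) := t.isLE_truncLT_obj _ _ _ (by omega)
  have hWge : W.IsGE (-(d : ℤ)) := (DerivedCategory.isGE_iff _ _).2 fun i hi => by
    have := Groth.L10.isIso_H_ι (-(d : ℤ) + 1) i (by omega) K
    exact (DerivedCategory.isZero_of_isGE K (-(d : ℤ)) i hi).of_iso
      (asIso ((homologyFunctor X.Modules i).map ((t.truncLTι (-(d : ℤ) + 1)).app K)))
  obtain ⟨e⟩ := Groth.L10.exists_iso_single_H W (-(d : ℤ))
  have := Groth.L10.isIso_H_ι (-(d : ℤ) + 1) (-(d : ℤ)) (by omega) K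
  let e' : (DCoh.inD X (DCoh.HD K (-(d : ℤ))))⟦(d : ℤ)⟧ ≅ W :=
    ((DerivedCategory.singleFunctors X.Modules).shiftIso (d : ℤ) (-(d : ℤ)) 0 (by omega)).app _ ≪≫
      (DerivedCategory.singleFunctor X.Modules (-(d : ℤ))).mapIso
        (asIso ((homologyFunctor X.Modules (-(d : ℤ))).map ((t.truncLTι (-(d : ℤ) + 1)).app K))).symm ≪≫ e.symm
  refine ⟨e'.hom ≫ (t.truncLTι (-(d : ℤ) + 1)).app K, fun F => ?_⟩
  let A : DCoh.D X := (DCoh.inD X F)⟦(d : ℤ)⟧
  haveI : t.IsLE (DCoh.inD X F) 0 := inferInstance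
  haveI hA : t.IsLE A (-(d : ℤ)) := t.isLE_shift (DCoh.inD X F) 0 (d : ℤ) (-(d : ℤ)) (by omega)
  have hinj : ∀ a b : A ⟶ W, a ≫ (t.truncLTι (-(d : ℤ) + 1)).app K = b ≫ (t.truncLTι (-(d : ℤ) + 1)).app K → a = b :=
    fun a b hab =>
      @Triangulated.TStructure.to_truncLT_obj_ext _ _ _ _ _ _ _ t (-(d : ℤ) + 1) A K a b hab (by simpa using hA)
  have hsur : ∀ v : A ⟶ K, ∃ a : A ⟶ W, a ≫ (t.truncLTι (-(d : ℤ) + 1)).app K = v := fun v => by
    have h0 : v ≫ (t.truncGEπ (-(d : ℤ) + 1)).app K = 0 := t.zero _ (-(d : ℤ)) (-(d : ℤ) + 1) (by omega)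
    obtain ⟨g, hg⟩ := Triangle.coyoneda_exact₂ _ (t.triangleLTGE_distinguished (-(d : ℤ) + 1) K) v h0
    exact ⟨g, hg.symm⟩
  have hff : Function.Bijective fun φ : F ⟶ DCoh.HD K (-(d : ℤ)) =>
      ((DerivedCategory.singleFunctor X.Modules 0).map φ)⟦(d : ℤ)⟧' :=
    ((Functor.FullyFaithful.ofFullyFaithful (shiftFunctor (DCoh.D X) (d : ℤ))).map_bijective _ _).comp
      ((Functor.FullyFaithful.ofFullyFaithful (DerivedCategory.singleFunctor X.Modules 0)).map_bijective _ _)
  constructor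
  · intro a b hab
    dsimp only at hab
    rw [← Category.assoc, ← Category.assoc] at hab
    exact hff.1 ((cancel_mono e'.hom).1 (hinj _ _ hab))
  · intro v
    obtain ⟨a, rfl⟩ := hsur v
    obtain ⟨φ, hφ⟩ := hff.2 (a ≫ e'.inv)
    refine ⟨φ, ?_⟩
    dsimp only at hφ ⊢
    rw [hφ, Category.assoc, e'.inv_hom_id_assoc]

theorem isQCohD_inD (F : X.Modules) (hF : Coh.IsQCoh F) : DCoh.IsQCohD (DCoh.inD X F) := fun i => by
  rcases eq_or_ne i 0 with rfl | hi
  · exact Groth.L29.DC.isQCoh_of_iso' ((singleFunctorCompHomologyFunctorIso X.Modules 0).app F).symm hF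
  · refine isQCoh_of_isZero ?_
    rcases lt_or_gt_of_ne hi with h | h
    · exact DerivedCategory.isZero_of_isGE _ 0 i h
    · exact DerivedCategory.isZero_of_isLE _ 0 i h

variable {A : Type u} [CommRing A] [IsNoetherianRing A] [X.Over (Spec (CommRingCat.of A))]

omit [IsNoetherianRing A] in
theorem hmap_smul_id (F : X.Modules) (c : A) (n : ℕ) (z : Coh.HH X F n) :
    hmap (c • 𝟙 F) n z = c • z := by
  rw [KLin.smul_id]
  change Sheaf.H.map (Groth.L16.CohLinear.tm (Formal.smulModΓ F (Coh.toGlobal (X ↘ Spec (CommRingCat.of A)) c))) n z = _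
  rw [show Groth.L16.CohLinear.tm (Formal.smulModΓ F (Coh.toGlobal (X ↘ Spec (CommRingCat.of A)) c)) =
    Coh.smulAb F (Coh.toGlobal (X ↘ Spec (CommRingCat.of A)) c) by ext U m; rfl]
  rfl

set_option maxHeartbeats 1600000 in
/-- The trace in top degree and its universal property. -/
theorem exists_trace [IsProper (X ↘ Spec (CommRingCat.of A))] [DCoh.HasRpush (X ↘ Spec (CommRingCat.of A))]
    [PreservesFiniteLimits (tilde.functor (CommRingCat.of A))]
    {h : DCoh.RpushPreservesQCoh (X ↘ Spec (CommRingCat.of A))}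
    {a : DCoh.DQCoh (Spec (CommRingCat.of A)) ⥤ DCoh.DQCoh X}
    (adj : DCoh.RpushQ (X ↘ Spec (CommRingCat.of A)) h ⊣ a) (d : ℕ)
    (hvan : ∀ M : X.Modules, Coh.IsQCoh M → ∀ i : ℕ, d < i → Subsingleton (Coh.HH X M i))
    (ω : Dual.D A) [ω.IsGE 0] (W : DCoh.DQCoh (Spec (CommRingCat.of A)))
    (eW : W.obj ≅ (DCoh.tildeD (CommRingCat.of A)).obj ω) (hK : (a.obj W).obj.IsGE (-(d : ℤ))) :
    ∃ t : Coh.HH X (DCoh.HD (a.obj W).obj (-(d : ℤ))) d →ₗ[A] Dual.HD A ω 0,
      ∀ F : X.Modules, Coh.IsQCoh F → ∀ ψ : Coh.HH X F d →ₗ[A] Dual.HD A ω 0,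
        ∃! φ : F ⟶ DCoh.HD (a.obj W).obj (-(d : ℤ)), ∀ z, ψ z = t (hmap φ d z) := by
  let f := X ↘ Spec (CommRingCat.of A)
  letI iS : (Spec (CommRingCat.of A)).Over (Spec (CommRingCat.of A)) := ⟨𝟙 _⟩
  haveI : IsLocallyNoetherian X := LocallyOfFiniteType.isLocallyNoetherian f
  haveI := Groth.L00.KFlat.hasLpull f
  haveI := Groth.L00.Tensor.grothendieckAbelian_modules X
  haveI : HasExt.{u} X.Modules := inferInstance
  haveI : HasInjectiveResolutions X.Modules := Groth.L17.PushQCoh.hasInjectiveResolutions X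
  haveI : (DCoh.Rpush f).Additive := RpushColim.additive_Rpush f
  have hsq : f ≫ (Spec (CommRingCat.of A) ↘ Spec (CommRingCat.of A)) =
      f ≫ Spec.map (CommRingCat.ofHom (RingHom.id A)) := by
    rw [CommRingCat.ofHom_id, Spec.map_id]; rfl
  -- modules and sheaves on the base
  let R : CommRingCat.{u} := CommRingCat.of A
  have hlin : ∀ (a : A) (N : ModuleCat.{u} R),
      (tilde.functor R).map (a • 𝟙 N) = a • 𝟙 ((tilde.functor R).obj N) := fun a N => by
    rw [KLin.smul_id]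
    exact Groth.L17.BC.TensorA.tilde_smul (R := R) a N
  haveI : (tilde.functor R).Additive :=
    haveI : PreservesColimitsOfSize.{0, 0} (tilde.functor R) := tilde.adjunction.leftAdjoint_preservesColimits
    haveI := preservesBinaryBiproducts_of_preservesBinaryCoproducts (tilde.functor R)
    Functor.additive_of_preservesBinaryBiproducts _
  haveI : PreservesFiniteColimits (tilde.functor R) :=
    haveI : PreservesColimitsOfSize.{0, 0} (tilde.functor R) := tilde.adjunction.leftAdjoint_preservesColimits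
    inferInstance
  haveI : (tilde.functor R).Linear A := ⟨fun {N N'} φ a => by
    rw [show a • φ = (a • 𝟙 N) ≫ φ by rw [Linear.smul_comp, Category.id_comp], Functor.map_comp, hlin,
      Linear.smul_comp]
    exact congrArg (a • ·) (Category.id_comp _)⟩
  obtain ⟨hfull, hfaith⟩ := TildeD.fullyFaithful (R := R)
  let eO : (DCoh.tildeD R).obj (Dual.inD A A) ≅ OD (Spec R) :=
    ((tilde.functor R).mapDerivedCategorySingleFunctor 0).app (ModuleCat.of A A) ≪≫
      (DerivedCategory.singleFunctor (Spec R).Modules 0).mapIso tildeSelf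
  let Φ : ∀ M : Dual.D A, (Dual.inD A A ⟶ M) ≃ₗ[A] (OD (Spec R) ⟶ (DCoh.tildeD R).obj M) := fun M =>
    (LinearEquiv.ofBijective ((DCoh.tildeD R).mapLinearMap A)
      ⟨(DCoh.tildeD R).map_injective, (DCoh.tildeD R).map_surjective⟩).trans
      (Linear.homCongr A eO (Iso.refl _))
  have hΦ : ∀ {M M' : Dual.D A} (q : Dual.inD A A ⟶ M) (v : M ⟶ M'),
      Φ M' (q ≫ v) = Φ M q ≫ (DCoh.tildeD R).map v := by
    intro M M' q v
    simp [Φ, Linear.homCongr_apply]
  obtain ⟨j, hj⟩ := exists_bottom (a.obj W).obj d hK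
  obtain ⟨o⟩ := Groth.L29.BCAdj.nonempty_Lpull_OD f
  -- sections upstairs and downstairs
  let Θ : ∀ V : DCoh.D X, (OD X ⟶ V) ≃ₗ[A] (OD (Spec (CommRingCat.of A)) ⟶ (DCoh.Rpush f).obj V) := fun V =>
    { toFun := fun u => (Groth.L29.BC.adj f).homEquiv _ _ (o.hom ≫ u)
      invFun := fun v => o.inv ≫ ((Groth.L29.BC.adj f).homEquiv _ _).symm v
      left_inv := fun u => by dsimp only; rw [Equiv.symm_apply_apply, o.inv_hom_id_assoc]
      right_inv := fun v => by dsimp only; rw [o.hom_inv_id_assoc, Equiv.apply_symm_apply]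
      map_add' := fun a b => by
        simp only [Adjunction.homEquiv_unit, Functor.map_add, Preadditive.comp_add]
      map_smul' := fun r a => by
        have h2 : ∀ {P Q : DCoh.D X} (v : P ⟶ Q), (DCoh.Rpush f).map (r • v) = r • (DCoh.Rpush f).map v :=
          fun v => Groth.L29.BCAdj.Rpush_smul (RingHom.id A) f hsq r v
        simp only [Adjunction.homEquiv_unit, Linear.comp_smul, h2, RingHom.id_apply] }
  have hΘ : ∀ {V V' : DCoh.D X} (u : OD X ⟶ V) (w : V ⟶ V'), Θ V' (u ≫ w) = Θ V u ≫ (DCoh.Rpush f).map w := by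
    intro V V' u w
    change (Groth.L29.BC.adj f).homEquiv _ _ (o.hom ≫ u ≫ w) = (Groth.L29.BC.adj f).homEquiv _ _ (o.hom ≫ u) ≫ _
    rw [← Category.assoc, Adjunction.homEquiv_naturality_right]
  -- cohomology
  let Sh : X.Modules → DCoh.D X := fun F => (DCoh.inD X F)⟦(d : ℤ)⟧
  let E : ∀ F : X.Modules, (OD X ⟶ Sh F) → Coh.HH X F d := fun F y =>
    ev F d (Ext.homEquiv.symm y)
  have hE : ∀ F, Function.Bijective (E F) := fun F =>
    (ev_bijective d F).comp Ext.homEquiv.symm.bijective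
  have hEnat : ∀ {F G : X.Modules} (g : F ⟶ G) (y : OD X ⟶ Sh F),
      E G (y ≫ ((DerivedCategory.singleFunctor X.Modules 0).map g)⟦(d : ℤ)⟧') = hmap g d (E F y) := by
    intro F G g y
    simp only [E]
    rw [← ev_natural]
    refine congrArg (ev G d) ?_
    apply Ext.homEquiv.injective
    rw [Equiv.apply_symm_apply]
    symm
    refine (Ext.comp_hom _ _ _).trans ?_
    rw [Ext.mk₀_hom]
    refine (ShiftedHom.comp_mk₀ _ _ _ _).trans ?_
    simp only [Ext.hom, Equiv.apply_symm_apply]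
  have hEadd : ∀ F (a b : OD X ⟶ Sh F), E F (a + b) = E F a + E F b := fun F a b => by
    simp only [E]
    rw [← map_add]
    refine congrArg _ ?_
    apply Ext.homEquiv.injective
    rw [Equiv.apply_symm_apply]
    refine Eq.trans ?_ (Ext.add_hom _ _).symm
    simp only [Ext.hom, Equiv.apply_symm_apply]
  let eH : ∀ F, (OD X ⟶ Sh F) ≃ₗ[A] Coh.HH X F d := fun F => LinearEquiv.ofBijective
    { toFun := E F
      map_add' := hEadd F
      map_smul' := fun c y => by
        have h1 : c • y = y ≫ ((DerivedCategory.singleFunctor X.Modules 0).map (c • 𝟙 F))⟦(d : ℤ)⟧' := by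
          rw [Functor.map_smul, CategoryTheory.Functor.map_id, Functor.map_smul, CategoryTheory.Functor.map_id,
            Linear.comp_smul]
          exact congrArg (c • ·) (Category.comp_id y).symm
        rw [h1, hEnat, hmap_smul_id]
        rfl } (hE F)
  -- maps to the twisted inverse image
  let ε : (DCoh.Rpush f).obj (a.obj W).obj ⟶ (DCoh.tildeD R).obj ω := (adj.counit.app W).hom ≫ eW.hom
  have hqA : ∀ F : X.Modules, Coh.IsQCoh F → DCoh.IsQCohD (Sh F) := fun F hF =>
    Gen.isQCohD_shift (isQCohD_inD F hF) _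
  have hΨ : ∀ F : X.Modules, Coh.IsQCoh F → Function.Bijective fun φ : F ⟶ DCoh.HD (a.obj W).obj (-(d : ℤ)) =>
      (DCoh.Rpush f).map (((DerivedCategory.singleFunctor X.Modules 0).map φ)⟦(d : ℤ)⟧' ≫ j) ≫ ε := by
    intro F hF
    let Q : DCoh.DQCoh X := ⟨Sh F, hqA F hF⟩
    have h1 : Function.Bijective fun v : Sh F ⟶ (a.obj W).obj => (DCoh.Rpush f).map v ≫ ε := by
      constructor
      · intro p q hpq
        dsimp only [ε] at hpq
        rw [← Category.assoc, ← Category.assoc, cancel_mono] at hpq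
        have := (adj.homEquiv Q W).symm.injective
          (a₁ := ObjectProperty.homMk p) (a₂ := ObjectProperty.homMk q) (ObjectProperty.hom_ext _ (by
            rw [Adjunction.homEquiv_counit, Adjunction.homEquiv_counit]
            exact hpq))
        exact congrArg (fun z : Q ⟶ a.obj W => z.hom) this
      · intro v
        let w : Q ⟶ a.obj W := adj.homEquiv Q W (ObjectProperty.homMk (v ≫ eW.inv))
        refine ⟨w.hom, ?_⟩
        have h2 : ((adj.homEquiv Q W).symm w).hom = v ≫ eW.inv := by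
          simp only [w, Equiv.symm_apply_apply]
          rfl
        rw [Adjunction.homEquiv_counit] at h2
        change (DCoh.Rpush f).map w.hom ≫ (adj.counit.app W).hom ≫ eW.hom = v
        rw [← Category.assoc]
        exact (congrArg (· ≫ eW.hom) h2).trans (by rw [Category.assoc, eW.inv_hom_id, Category.comp_id])
    exact h1.comp (hj F)
  -- the trace
  let P : (OD X ⟶ Sh (DCoh.HD (a.obj W).obj (-(d : ℤ)))) →ₗ[A] Dual.HD A ω 0 :=
    (Groth.L29.HomD.evalEquiv ω).toLinearMap ∘ₗ (Φ ω).symm.toLinearMap ∘ₗ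
      Linear.rightComp A _ ((DCoh.Rpush f).map j ≫ ε) ∘ₗ (Θ _).toLinearMap
  refine ⟨P ∘ₗ (eH _).symm.toLinearMap, fun F hF ψ => ?_⟩
  -- the direct image of `F[d]`
  have hVq : DCoh.IsQCohD ((DCoh.Rpush f).obj (Sh F)) := h _ (hqA F hF)
  obtain ⟨N, ⟨eN⟩⟩ := (TildeD.isQCohD_iff (R := R) _).1 hVq
  haveI : N.IsLE 0 := (DerivedCategory.isLE_iff N 0).2 fun i hi => by
    letI := Gen.commShiftRpush f
    haveI : (DerivedCategory.TStructure.t (C := X.Modules)).IsLE (DCoh.inD X F) 0 := inferInstance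
    have hz := RpushQC.isZero_HD_Rpush f (d + 1) (fun M hM p hp => by
        haveI := hM
        exact (Groth.Agent.Pic0.subsingleton_HH_iff (R := R) f M p).1 (hvan M hM p hp))
      (DCoh.inD X F) (isQCohD_inD F hF) (show DerivedCategory.IsLE (DCoh.inD X F) 0 by assumption) ((d : ℤ) + i)
      (by push_cast; omega)
    refine (TildeAlg.isZero_hd_iff (R := R) N i).1 ?_
    exact hz.of_iso ((DerivedCategory.homologyFunctor _ i).mapIso
        (eN ≪≫ ((DCoh.Rpush f).commShiftIso (d : ℤ)).app (DCoh.inD X F)) ≪≫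
      Groth.L10.hShiftIso (A := (Spec R).Modules) ((DCoh.Rpush f).obj (DCoh.inD X F)) (d : ℤ) i ((d : ℤ) + i) rfl)
  let l : (Dual.inD A A ⟶ N) →ₗ[A] (Dual.inD A A ⟶ ω) :=
    (Groth.L29.HomD.evalEquiv ω).symm.toLinearMap ∘ₗ ψ ∘ₗ (eH F).toLinearMap ∘ₗ (Θ (Sh F)).symm.toLinearMap ∘ₗ
      (Linear.homCongr A (Iso.refl _) eN).toLinearMap ∘ₗ (Φ N).toLinearMap
  obtain ⟨v, hv, hvu⟩ := existsUnique_hom N ω l
  have key : ∀ (φ : F ⟶ DCoh.HD (a.obj W).obj (-(d : ℤ))) (w : N ⟶ ω),
      (DCoh.Rpush f).map (((DerivedCategory.singleFunctor X.Modules 0).map φ)⟦(d : ℤ)⟧' ≫ j) ≫ ε =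
        eN.inv ≫ (DCoh.tildeD R).map w →
      ((∀ z, ψ z = (P ∘ₗ (eH _).symm.toLinearMap) (hmap φ d z)) ↔ ∀ q : Dual.inD A A ⟶ N, q ≫ w = l q) := by
    intro φ w hw
    have h1 : ∀ y : OD X ⟶ Sh F, (P ∘ₗ (eH _).symm.toLinearMap) (hmap φ d (eH F y)) =
        Groth.L29.HomD.evalEquiv ω ((Φ N).symm (Θ _ y ≫ eN.inv) ≫ w) := by
      intro y
      rw [show hmap φ d (eH F y) = eH _ (y ≫ ((DerivedCategory.singleFunctor X.Modules 0).map φ)⟦(d : ℤ)⟧') from
        (hEnat φ y).symm]
      change P ((eH _).symm (eH _ _)) = _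
      rw [LinearEquiv.symm_apply_apply]
      change Groth.L29.HomD.evalEquiv ω ((Φ ω).symm (Θ _ (y ≫ _) ≫ (DCoh.Rpush f).map j ≫ ε)) = _
      refine congrArg _ ((Φ ω).symm_apply_eq.2 ?_)
      rw [hΘ, Category.assoc, ← Functor.map_comp_assoc, hw, hΦ, LinearEquiv.apply_symm_apply, Category.assoc]
    constructor
    · intro hz q
      apply (Groth.L29.HomD.evalEquiv ω).injective
      have h2 := hz (eH F ((Θ (Sh F)).symm (Φ N q ≫ eN.hom)))
      rw [h1, LinearEquiv.apply_symm_apply, Category.assoc, eN.hom_inv_id, Category.comp_id,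
        LinearEquiv.symm_apply_apply] at h2
      rw [← h2]
      simp [l, Linear.homCongr_apply]
      rfl
    · intro hz z
      obtain ⟨y, rfl⟩ := (eH F).surjective z
      rw [h1, hz]
      simp [l, Linear.homCongr_apply]
      erw [LinearEquiv.apply_symm_apply, Category.assoc, eN.inv_hom_id, Category.comp_id,
        LinearEquiv.symm_apply_apply]
  obtain ⟨φ, hφ⟩ := (hΨ F hF).2 (eN.inv ≫ (DCoh.tildeD R).map v)
  refine ⟨φ, (key φ v hφ).2 hv, fun φ' hφ' => ?_⟩
  obtain ⟨w, hw⟩ := (DCoh.tildeD R).map_surjective (eN.hom ≫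
    (DCoh.Rpush f).map (((DerivedCategory.singleFunctor X.Modules 0).map φ')⟦(d : ℤ)⟧' ≫ j) ≫ ε)
  have hw' : (DCoh.Rpush f).map (((DerivedCategory.singleFunctor X.Modules 0).map φ')⟦(d : ℤ)⟧' ≫ j) ≫ ε =
      eN.inv ≫ (DCoh.tildeD R).map w := by rw [hw, eN.inv_hom_id_assoc]
  obtain rfl := hvu w ((key φ' w hw').1 hφ')
  exact (hΨ F hF).1 (hw'.trans hφ.symm)

end Groth.L10.TopDual
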