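import Groth.Agent.L10.TopDual.Main
import Groth.Agent.S3677
import Groth.Agent.L10.ShriekLoc.Field
import Groth.Agent.L10.FMK.SuppDim
import Groth.Agent.S1766

/-!
The dualizing module of a scheme proper over a field.
-/

set_option autoImplicit false
set_option backward.defeqAttrib.useBackward true
set_option backward.isDefEq.respectTransparency false
set_option backward.isDefEq.respectTransparency.types false
set_option linter.style.haveILetI false
universe u

open CategoryTheory CategoryTheory.Limits AlgebraicGeometry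

attribute [local instance] HasDerivedCategory.standard

noncomputable section

namespace Groth.L10.TopDual

open Groth.L29 Groth.L29.DC Groth.L10.ShriekLoc
open Groth.L16.CohLinear (hmap)

theorem hmap_zero {X : Scheme.{u}} {M N : X.Modules} (n : ℕ) (z : Coh.HH X M n) :
    hmap (0 : M ⟶ N) n z = 0 := by
  change ((Sheaf.functorH _ n).map (Groth.L16.CohLinear.tm (0 : M ⟶ N))).hom z = 0
  rw [show Groth.L16.CohLinear.tm (0 : M ⟶ N) = 0 from Functor.map_zero _ _ _, Functor.map_zero]
  rfl

/-- the dualizing module: coherent, represents the dual of top cohomology, lives on the components of top dimension -/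
theorem exists_dual_field (k : Type u) [Field k] (X : Scheme.{u}) [X.Over (Spec (CommRingCat.of k))]
    [IsProper (X ↘ Spec (CommRingCat.of k))] (d : ℕ) (hd : topologicalKrullDim X = d) :
    ∃ (ω : X.Modules) (t : Coh.HH X ω d →ₗ[k] k), Coh.IsCoh ω ∧
      (∀ F : X.Modules, Coh.IsQCoh F → ∀ ψ : Coh.HH X F d →ₗ[k] k, ∃! φ : F ⟶ ω, ∀ z, ψ z = t (hmap φ d z)) ∧
      {x : X | Nontrivial (ω.presheaf.stalk x)} =
        ⋃ Z ∈ {Z : Set X | Z ∈ irreducibleComponents X ∧ topologicalKrullDim ↥Z = (d : WithBot ℕ∞)}, Z := by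
  let f := X ↘ Spec (CommRingCat.of k)
  haveI := fun (R : CommRingCat.{u}) => Groth.L18.TildeF.tilde_preservesFiniteLimits (R := R)
  haveI : IsLocallyNoetherian X := LocallyOfFiniteType.isLocallyNoetherian f
  haveI : CompactSpace X := QuasiCompact.compactSpace_of_compactSpace f
  haveI : AlgebraicGeometry.IsNoetherian X := {}
  haveI : DCoh.HasRpush f := RpushQC.hasRpush f
  have h : DCoh.RpushPreservesQCoh f := fun K hK => RpushQC.isQCohD_Rpush f K hK
  haveI := Groth.Agent.S1766.result X (Spec (CommRingCat.of k)) f h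
  let adj := Adjunction.ofIsLeftAdjoint (ObjectProperty.lift DCoh.IsQCohD
    (ObjectProperty.ι DCoh.IsQCohD ⋙ DCoh.Rpush f) (fun K => h K.obj K.property))
  obtain ⟨hω, hn⟩ := isDualizing_field k
  let W : DCoh.DQCoh (Spec (CommRingCat.of k)) :=
    ⟨(DCoh.tildeD (CommRingCat.of k)).obj (Dual.inD k k), (TildeD.isQCohD_iff (R := CommRingCat.of k) _).2
      ⟨_, ⟨Iso.refl _⟩⟩⟩
  obtain ⟨h1, -, h3, -⟩ := Groth.Agent.S3677.result k _ hω hn X f h _ adj W ⟨Iso.refl _⟩ d hd
  have hvan : ∀ M : X.Modules, Coh.IsQCoh M → ∀ i : ℕ, d < i → Subsingleton (Coh.HH X M i) := fun M _ i hi =>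
    Groth.L10.FMK.subsingleton_HH_of_codim hd.le M 0 (fun y _ => by
      simpa using ringKrullDim_nonneg_of_nontrivial) i (by omega) (by omega)
  haveI hge : ((_ : DCoh.DQCoh (Spec (CommRingCat.of k)) ⥤ DCoh.DQCoh X).obj W).obj.IsGE (-(d : ℤ)) :=
    (DerivedCategory.isGE_iff _ _).2 fun i hi => h1 i (Or.inl hi)
  haveI : DerivedCategory.IsGE (Dual.inD k k) 0 := inferInstance
  obtain ⟨t, ht⟩ := exists_trace (h := h) adj d hvan (Dual.inD k k) W (Iso.refl _) hge
  let e : Dual.HD k (Dual.inD k k) 0 ≃ₗ[k] k :=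
    ((DerivedCategory.singleFunctorCompHomologyFunctorIso (ModuleCat.{u} k) 0).app (ModuleCat.of k k)).toLinearEquiv
  refine ⟨_, e.toLinearMap ∘ₗ t, isCoh_local (hf := h) (Dual.inD k k) hω adj W ⟨Iso.refl _⟩ _, fun F hF ψ => ?_, h3⟩
  obtain ⟨φ, hφ, hu⟩ := ht F hF (e.symm.toLinearMap ∘ₗ ψ)
  refine ⟨φ, fun z => ?_, fun φ' hφ' => hu φ' fun z => ?_⟩
  · exact (e.apply_symm_apply (ψ z)).symm.trans (congrArg e (hφ z))
  · exact e.injective ((e.apply_symm_apply (ψ z)).trans (hφ' z))

end Groth.L10.TopDual
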