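import Groth.Agent.L10.TopDual.Repr
import Groth.Agent.L19.VanishFibre.TopModel
import Groth.Agent.L19.VanishFibre.Noetherian
import Groth.Agent.L17.AffinePush
import Groth.Agent.L16.QcqsPush

/-!
Top cohomology of proper morphisms with small fibres over an arbitrary ring.
-/

set_option autoImplicit false
set_option linter.style.haveILetI false
set_option backward.isDefEq.respectTransparency false

universe u

open CategoryTheory CategoryTheory.Limits AlgebraicGeometry TopologicalSpace

noncomputable section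

namespace Groth.L10.TopDual

theorem dim_le_of_components {α : Type*} [TopologicalSpace α] (n : ℕ)
    (h : ∀ Z ∈ irreducibleComponents α, topologicalKrullDim ↥Z ≤ (n : WithBot ℕ∞)) :
    topologicalKrullDim α ≤ (n : WithBot ℕ∞) := by
  refine iSup_le fun l => ?_
  obtain ⟨Z, hZ, hlZ⟩ := exists_mem_irreducibleComponents_subset_of_isIrreducible (l.last : Set α) l.last.isIrreducible
  have hall : ∀ i, (l i : Set α) ⊆ Z := fun i =>
    (show (l i : Set α) ⊆ l.last from l.monotone (Fin.le_last i)).trans hlZ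
  let F : Fin (l.length + 1) → IrreducibleCloseds Z := fun i =>
    { carrier := Subtype.val ⁻¹' (l i : Set α)
      isIrreducible' := by
        obtain ⟨z, hz⟩ := (l i).isIrreducible.nonempty
        refine ⟨⟨⟨z, hall i hz⟩, hz⟩, fun u v hu hv hsu hsv => ?_⟩
        obtain ⟨u', hu', rfl⟩ := isOpen_induced_iff.1 hu
        obtain ⟨v', hv', rfl⟩ := isOpen_induced_iff.1 hv
        obtain ⟨a, ha, ha'⟩ := hsu
        obtain ⟨b, hb, hb'⟩ := hsv
        obtain ⟨w, hw, hwu, hwv⟩ := (l i).isIrreducible.isPreirreducible u' v' hu' hv' ⟨a.1, ha, ha'⟩ ⟨b.1, hb, hb'⟩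
        exact ⟨⟨w, hall i hw⟩, hw, hwu, hwv⟩
      isClosed' := (l i).isClosed.preimage continuous_subtype_val }
  have hmono : StrictMono F := fun i i' hii => by
    obtain ⟨hle, hne⟩ := l.strictMono hii |>.le, l.strictMono hii |>.ne
    refine lt_of_le_of_ne (fun z hz => hle hz) fun h => hne (SetLike.ext fun z => ?_)
    refine ⟨fun hz => hle hz, fun hz => ?_⟩
    have hz' : (⟨z, hall i' hz⟩ : Z) ∈ (F i' : Set _) := hz
    rw [← h] at hz'
    exact hz'
  exact le_trans (Order.LTSeries.length_le_krullDim (LTSeries.mk l.length F hmono)) (h Z hZ)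

/-- no cohomology above the fibre dimension, over any ring -/
theorem subsingleton_HH_of_fibres {A : Type u} [CommRing A] {X : Scheme.{u}} (f : X ⟶ Spec (CommRingCat.of A))
    [IsProper f] {d : ℕ} (hd : ∀ y, topologicalKrullDim ↥(f.fiber y) ≤ d) (M : X.Modules) (hM : Coh.IsQCoh M)
    (p : ℕ) (hp : d < p) : Subsingleton (Coh.HH X M p) := by
  haveI := hM
  obtain ⟨A₀, hA₀, X₀, f₀, a, hf₀, ha, -, hd₀, -⟩ := Groth.L19.VanishFibre.exists_global_model f hd
  haveI : IsNoetherianRing A₀ := by
    haveI : Algebra.FiniteType ℤ A₀ := A₀.fg_iff_finiteType.mp hA₀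
    exact Algebra.FiniteType.isNoetherianRing ℤ A₀
  haveI := hf₀
  haveI := ha
  haveI : Coh.IsQCoh ((Coh.push a).obj M) := Groth.L16.QcqsPush.isQCoh_push M a
  obtain ⟨e⟩ := Groth.L17.nonempty_HH_push_of_isAffineHom a M p
  haveI := Groth.L19.VanishFibre.subsingleton_HH_of_fibre_dim_le (R := CommRingCat.of A₀) f₀ hd₀
    ((Coh.push a).obj M) hp
  exact e.toEquiv.subsingleton

end Groth.L10.TopDual
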