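import Groth.Agent.L10.TopDual.Main
import Groth.Agent.L10.ShriekLoc.Core

/-!
The trace in top degree is natural in the module on the base.
-/

set_option autoImplicit false
set_option backward.defeqAttrib.useBackward true
set_option backward.isDefEq.respectTransparency false
set_option backward.isDefEq.respectTransparency.types false
set_option linter.style.haveILetI false
universe u

open CategoryTheory CategoryTheory.Limits CategoryTheory.Pretriangulated CategoryTheory.Abelian AlgebraicGeometry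
  DerivedCategory
attribute [local instance] HasDerivedCategory.standard

noncomputable section

namespace Groth.L10.TopDual

open Groth.L16.CohLinear (hmap hmap_comp)
open Groth.L29.BCAdj (OD)
open Groth.L29.DC
open Groth.L21.CurveDual (ev ev_natural)

variable {X : Scheme.{u}}

/-- the canonical identification of the cohomology of a shifted module -/
def shiftedH (F : X.Modules) (d : ℕ) :
    DCoh.HD ((DCoh.inD X F)⟦(d : ℤ)⟧) (-(d : ℤ)) ≅ F :=
  Groth.L10.hShiftIso (A := X.Modules) (DCoh.inD X F) (d : ℤ) (-(d : ℤ)) 0 (by omega) ≪≫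
    (singleFunctorCompHomologyFunctorIso X.Modules 0).app F

theorem shiftedH_nat {F F' : X.Modules} (φ : F ⟶ F') (d : ℕ) :
    (homologyFunctor X.Modules (-(d : ℤ))).map (((DerivedCategory.singleFunctor X.Modules 0).map φ)⟦(d : ℤ)⟧') ≫
      (shiftedH F' d).hom = (shiftedH F d).hom ≫ φ := by
  simp only [shiftedH, Iso.trans_hom, Category.assoc]
  rw [← Category.assoc]
  refine (congrArg (· ≫ _) (Groth.L10.hShiftIso_nat (A := X.Modules) _ _ _ _ _)).trans ?_
  rw [Category.assoc]
  exact congrArg (_ ≫ ·) ((singleFunctorCompHomologyFunctorIso X.Modules 0).hom.naturality φ)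

/-- the normalised map from the lowest cohomology -/
theorem exists_bottom_norm (K : DCoh.D X) (d : ℕ) (hK : K.IsGE (-(d : ℤ))) :
    ∃ j : (DCoh.inD X (DCoh.HD K (-(d : ℤ))))⟦(d : ℤ)⟧ ⟶ K,
      (homologyFunctor X.Modules (-(d : ℤ))).map j = (shiftedH (DCoh.HD K (-(d : ℤ))) d).hom ∧
      ∀ F : X.Modules, Function.Bijective fun φ : F ⟶ DCoh.HD K (-(d : ℤ)) =>
        (((DerivedCategory.singleFunctor X.Modules 0).map φ)⟦(d : ℤ)⟧' ≫ j) := by
  let t := DerivedCategory.TStructure.t (C := X.Modules)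
  let W := (t.truncLT (-(d : ℤ) + 1)).obj K
  have hWle : W.IsLE (-(d : ℤ)) := t.isLE_truncLT_obj _ _ _ (by omega)
  have hWge : W.IsGE (-(d : ℤ)) := (DerivedCategory.isGE_iff _ _).2 fun i hi => by
    have := Groth.L10.isIso_H_ι (-(d : ℤ) + 1) i (by omega) K
    exact (DerivedCategory.isZero_of_isGE K (-(d : ℤ)) i hi).of_iso
      (asIso ((homologyFunctor X.Modules i).map ((t.truncLTι (-(d : ℤ) + 1)).app K)))
  obtain ⟨e⟩ := Groth.L10.exists_iso_single_H W (-(d : ℤ))
  haveI hι := Groth.L10.isIso_H_ι (-(d : ℤ) + 1) (-(d : ℤ)) (by omega) K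
  let e' : (DCoh.inD X (DCoh.HD K (-(d : ℤ))))⟦(d : ℤ)⟧ ≅ W :=
    ((DerivedCategory.singleFunctors X.Modules).shiftIso (d : ℤ) (-(d : ℤ)) 0 (by omega)).app _ ≪≫
      (DerivedCategory.singleFunctor X.Modules (-(d : ℤ))).mapIso
        (asIso ((homologyFunctor X.Modules (-(d : ℤ))).map ((t.truncLTι (-(d : ℤ) + 1)).app K))).symm ≪≫ e.symm
  let H := homologyFunctor X.Modules (-(d : ℤ))
  let j₀ := e'.hom ≫ (t.truncLTι (-(d : ℤ) + 1)).app K
  haveI : IsIso (H.map j₀) := by
    rw [Functor.map_comp]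
    haveI : IsIso (H.map ((t.truncLTι (-(d : ℤ) + 1)).app K)) := hι
    infer_instance
  let u : DCoh.HD K (-(d : ℤ)) ≅ DCoh.HD K (-(d : ℤ)) := (shiftedH _ d).symm ≪≫ asIso (H.map j₀)
  refine ⟨((DerivedCategory.singleFunctor X.Modules 0).map u.inv)⟦(d : ℤ)⟧' ≫ j₀, ?_, fun F => ?_⟩
  · have h1 : H.map j₀ = (shiftedH (DCoh.HD K (-(d : ℤ))) d).hom ≫ u.hom := by simp [u]
    rw [Functor.map_comp]
    change _ ≫ H.map j₀ = _
    rw [h1, ← Category.assoc, shiftedH_nat, Category.assoc, u.inv_hom_id, Category.comp_id]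
  let A : DCoh.D X := (DCoh.inD X F)⟦(d : ℤ)⟧
  haveI : t.IsLE (DCoh.inD X F) 0 := inferInstance
  haveI hA : t.IsLE A (-(d : ℤ)) := t.isLE_shift (DCoh.inD X F) 0 (d : ℤ) (-(d : ℤ)) (by omega)
  have hinj : ∀ a b : A ⟶ W, a ≫ (t.truncLTι (-(d : ℤ) + 1)).app K = b ≫ (t.truncLTι (-(d : ℤ) + 1)).app K → a = b :=
    fun a b hab =>
      @Triangulated.TStructure.to_truncLT_obj_ext _ _ _ _ _ _ _ t (-(d : ℤ) + 1) A K a b hab (by simpa using hA)
  have hsur : ∀ v : A ⟶ K, ∃ a : A ⟶ W, a ≫ (t.truncLTι (-(d : ℤ) + 1)).app K = v := fun v => by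
    have h0 : v ≫ (t.truncGEπ (-(d : ℤ) + 1)).app K = 0 := t.zero _ (-(d : ℤ)) (-(d : ℤ) + 1) (by omega)
    obtain ⟨g, hg⟩ := Triangle.coyoneda_exact₂ _ (t.triangleLTGE_distinguished (-(d : ℤ) + 1) K) v h0
    exact ⟨g, hg.symm⟩
  have hff : Function.Bijective fun φ : F ⟶ DCoh.HD K (-(d : ℤ)) =>
      ((DerivedCategory.singleFunctor X.Modules 0).map φ)⟦(d : ℤ)⟧' :=
    ((Functor.FullyFaithful.ofFullyFaithful (shiftFunctor (DCoh.D X) (d : ℤ))).map_bijective _ _).comp
      ((Functor.FullyFaithful.ofFullyFaithful (DerivedCategory.singleFunctor X.Modules 0)).map_bijective _ _)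
  have h0 : Function.Bijective fun φ : F ⟶ DCoh.HD K (-(d : ℤ)) =>
      ((DerivedCategory.singleFunctor X.Modules 0).map φ)⟦(d : ℤ)⟧' ≫ j₀ := by
    constructor
    · intro a b hab
      dsimp only [j₀] at hab
      rw [← Category.assoc, ← Category.assoc] at hab
      exact hff.1 ((cancel_mono e'.hom).1 (hinj _ _ hab))
    · intro v
      obtain ⟨a, rfl⟩ := hsur v
      obtain ⟨φ, hφ⟩ := hff.2 (a ≫ e'.inv)
      refine ⟨φ, ?_⟩
      dsimp only at hφ ⊢
      rw [hφ]
      simp only [j₀, Category.assoc, e'.inv_hom_id_assoc]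
  have h1 := h0.comp (Iso.homCongr (Iso.refl F) u.symm).bijective
  convert h1 using 2 with φ
  simp [Iso.homCongr]

variable {A : Type u} [CommRing A] [IsNoetherianRing A] [X.Over (Spec (CommRingCat.of A))]
  [IsProper (X ↘ Spec (CommRingCat.of A))] [DCoh.HasRpush (X ↘ Spec (CommRingCat.of A))]
  [PreservesFiniteLimits (tilde.functor (CommRingCat.of A))]
  {h : DCoh.RpushPreservesQCoh (X ↘ Spec (CommRingCat.of A))}
  {a : DCoh.DQCoh (Spec (CommRingCat.of A)) ⥤ DCoh.DQCoh X}

variable (A) in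
/-- a module as a complex of sheaves on the base -/
def baseD : ModuleCat.{u} A ⥤ DCoh.DQCoh (Spec (CommRingCat.of A)) :=
  ObjectProperty.lift _ (DerivedCategory.singleFunctor (ModuleCat.{u} A) 0 ⋙ DCoh.tildeD (CommRingCat.of A))
    fun N => (TildeD.isQCohD_iff (R := CommRingCat.of A) _).2 ⟨_, ⟨Iso.refl _⟩⟩

/-- `H^{-d}` of the twisted inverse image of a module -/
abbrev lowH (a : DCoh.DQCoh (Spec (CommRingCat.of A)) ⥤ DCoh.DQCoh X) (d : ℕ) : ModuleCat.{u} A ⥤ X.Modules :=
  baseD A ⋙ a ⋙ ObjectProperty.ι _ ⋙ homologyFunctor X.Modules (-(d : ℤ))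

/-- the twisted inverse image of a module lives in degrees `≥ -d` -/
theorem isGE_baseD (adj : DCoh.RpushQ (X ↘ Spec (CommRingCat.of A)) h ⊣ a) (d : ℕ)
    (hvan : ∀ M : X.Modules, Coh.IsQCoh M → ∀ i : ℕ, d < i → Subsingleton (Coh.HH X M i))
    (N : ModuleCat.{u} A) : (a.obj ((baseD A).obj N)).obj.IsGE (-(d : ℤ)) := by
  let f := X ↘ Spec (CommRingCat.of A)
  haveI : IsLocallyNoetherian X := LocallyOfFiniteType.isLocallyNoetherian f
  haveI : CompactSpace X := QuasiCompact.compactSpace_of_compactSpace f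
  haveI := Groth.L00.Tensor.grothendieckAbelian_modules X
  let R : CommRingCat.{u} := CommRingCat.of A
  let W := (baseD A).obj N
  haveI : PreservesColimitsOfSize.{0, 0} (tilde.functor R) := tilde.adjunction.leftAdjoint_preservesColimits
  haveI := preservesBinaryBiproducts_of_preservesBinaryCoproducts (tilde.functor R)
  haveI : (tilde.functor R).Additive := Functor.additive_of_preservesBinaryBiproducts _
  have hW0 : W.obj.IsGE 0 := by
    refine (DerivedCategory.isGE_iff _ _).2 fun i hi => ?_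
    exact (TildeAlg.isZero_hd_iff (R := R) _ i).2 (DerivedCategory.isZero_of_isGE _ 0 i hi)
  let K := (a.obj W).obj
  -- no maps from shifts beyond `d`
  have hzero : ∀ (i : ℕ), d < i → ∀ F : X.Modules, Coh.IsQCoh F → ∀ v : (DCoh.inD X F)⟦(i : ℤ)⟧ ⟶ K, v = 0 := by
    intro i hi F hF v
    let Q : DCoh.DQCoh X := ⟨(DCoh.inD X F)⟦(i : ℤ)⟧, Gen.isQCohD_shift (isQCohD_inD F hF) _⟩
    have hle : ((DCoh.RpushQ f h).obj Q).obj.IsLE (-1) := (DerivedCategory.isLE_iff _ _).2 fun m hm => by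
      letI := Gen.commShiftRpush f
      haveI : (DerivedCategory.TStructure.t (C := X.Modules)).IsLE (DCoh.inD X F) 0 := inferInstance
      have hz := RpushQC.isZero_HD_Rpush f (d + 1) (fun M hM p hp => by
          haveI := hM
          exact (Groth.Agent.Pic0.subsingleton_HH_iff (R := R) f M p).1 (hvan M hM p hp))
        (DCoh.inD X F) (isQCohD_inD F hF) (show DerivedCategory.IsLE (DCoh.inD X F) 0 by assumption) ((i : ℤ) + m)
        (by omega)
      exact hz.of_iso ((DerivedCategory.homologyFunctor _ m).mapIso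
          (((DCoh.Rpush f).commShiftIso (i : ℤ)).app (DCoh.inD X F)) ≪≫
        Groth.L10.hShiftIso (A := (Spec R).Modules) ((DCoh.Rpush f).obj (DCoh.inD X F)) (i : ℤ) m ((i : ℤ) + m) rfl)
    have hz : (adj.homEquiv Q W).symm (ObjectProperty.homMk v) = 0 :=
      ObjectProperty.hom_ext _ (by
        haveI := hle
        haveI := hW0
        exact DerivedCategory.TStructure.t.zero _ (-1) 0 (by omega))
    have hv := congrArg (fun z => (adj.homEquiv Q W z).hom) hz
    rw [Equiv.apply_symm_apply] at hv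
    refine hv.trans ?_
    haveI : (DCoh.Rpush f).Additive := RpushColim.additive_Rpush f
    haveI : (DCoh.RpushQ f h).Additive := inferInstance
    haveI : a.Additive := adj.right_adjoint_additive
    rw [Adjunction.homEquiv_unit, Functor.map_zero, comp_zero]
    rfl
  obtain ⟨c, hc⟩ := Groth.L10.ShriekLoc.exists_isGE adj W 0 hW0
  refine (DerivedCategory.isGE_iff _ _).2 ?_
  have key : ∀ n : ℕ, ∀ i : ℤ, i < -(d : ℤ) → i ≤ c + (n : ℤ) → IsZero ((homologyFunctor X.Modules i).obj K) := by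
    intro n
    induction n using Nat.strong_induction_on with
    | _ n ih =>
      intro i hid hin
      obtain ⟨m, hm⟩ : ∃ m : ℕ, (m : ℤ) = -i := ⟨(-i).toNat, by omega⟩
      have hge : K.IsGE (-(m : ℤ)) := (DerivedCategory.isGE_iff _ _).2 fun i' hi' => by
        by_cases h' : i' < c
        · exact (DerivedCategory.isGE_iff _ _).1 hc i' h'
        · exact ih (i' - c).toNat (by omega) i' (by omega) (by omega)
      obtain ⟨j, -, hj⟩ := exists_bottom_norm K m hge
      have hH : Coh.IsQCoh (DCoh.HD K (-(m : ℤ))) := (a.obj W).property _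
      rw [show i = -(m : ℤ) by omega, IsZero.iff_id_eq_zero]
      exact (hj _).1 ((hzero m (by omega) _ hH _).trans (hzero m (by omega) _ hH _).symm)
  intro i hi
  exact key (i - c).toNat i hi (by omega)

set_option maxHeartbeats 3200000 in
/-- the trace in top degree, natural in the module on the base -/
theorem exists_natural_trace (adj : DCoh.RpushQ (X ↘ Spec (CommRingCat.of A)) h ⊣ a) (d : ℕ)
    (hvan : ∀ M : X.Modules, Coh.IsQCoh M → ∀ i : ℕ, d < i → Subsingleton (Coh.HH X M i)) :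
    ∃ t : ∀ N : ModuleCat.{u} A, Coh.HH X ((lowH a d).obj N) d →ₗ[A] N,
      (∀ (N : ModuleCat.{u} A) (F : X.Modules), Coh.IsQCoh F → ∀ ψ : Coh.HH X F d →ₗ[A] N,
        ∃! φ : F ⟶ (lowH a d).obj N, ∀ z, ψ z = t N (hmap φ d z)) ∧
      ∀ {N N' : ModuleCat.{u} A} (g : N ⟶ N') (z : Coh.HH X ((lowH a d).obj N) d),
        t N' (hmap ((lowH a d).map g) d z) = g (t N z) := by
  let f := X ↘ Spec (CommRingCat.of A)
  letI iS : (Spec (CommRingCat.of A)).Over (Spec (CommRingCat.of A)) := ⟨𝟙 _⟩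
  haveI : IsLocallyNoetherian X := LocallyOfFiniteType.isLocallyNoetherian f
  haveI := Groth.L00.KFlat.hasLpull f
  haveI := Groth.L00.Tensor.grothendieckAbelian_modules X
  haveI : HasExt.{u} X.Modules := inferInstance
  haveI : HasInjectiveResolutions X.Modules := Groth.L17.PushQCoh.hasInjectiveResolutions X
  haveI : (DCoh.Rpush f).Additive := RpushColim.additive_Rpush f
  have hsq : f ≫ (Spec (CommRingCat.of A) ↘ Spec (CommRingCat.of A)) =
      f ≫ Spec.map (CommRingCat.ofHom (RingHom.id A)) := by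
    rw [CommRingCat.ofHom_id, Spec.map_id]; rfl
  -- modules and sheaves on the base
  let R : CommRingCat.{u} := CommRingCat.of A
  have hlin : ∀ (a : A) (N : ModuleCat.{u} R),
      (tilde.functor R).map (a • 𝟙 N) = a • 𝟙 ((tilde.functor R).obj N) := fun a N => by
    rw [KLin.smul_id]
    exact Groth.L17.BC.TensorA.tilde_smul (R := R) a N
  haveI : (tilde.functor R).Additive :=
    haveI : PreservesColimitsOfSize.{0, 0} (tilde.functor R) := tilde.adjunction.leftAdjoint_preservesColimits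
    haveI := preservesBinaryBiproducts_of_preservesBinaryCoproducts (tilde.functor R)
    Functor.additive_of_preservesBinaryBiproducts _
  haveI : PreservesFiniteColimits (tilde.functor R) :=
    haveI : PreservesColimitsOfSize.{0, 0} (tilde.functor R) := tilde.adjunction.leftAdjoint_preservesColimits
    inferInstance
  haveI : (tilde.functor R).Linear A := ⟨fun {N N'} φ a => by
    rw [show a • φ = (a • 𝟙 N) ≫ φ by rw [Linear.smul_comp, Category.id_comp], Functor.map_comp, hlin,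
      Linear.smul_comp]
    exact congrArg (a • ·) (Category.id_comp _)⟩
  obtain ⟨hfull, hfaith⟩ := TildeD.fullyFaithful (R := R)
  let eO : (DCoh.tildeD R).obj (Dual.inD A A) ≅ OD (Spec R) :=
    ((tilde.functor R).mapDerivedCategorySingleFunctor 0).app (ModuleCat.of A A) ≪≫
      (DerivedCategory.singleFunctor (Spec R).Modules 0).mapIso tildeSelf
  let Φ : ∀ M : Dual.D A, (Dual.inD A A ⟶ M) ≃ₗ[A] (OD (Spec R) ⟶ (DCoh.tildeD R).obj M) := fun M =>
    (LinearEquiv.ofBijective ((DCoh.tildeD R).mapLinearMap A)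
      ⟨(DCoh.tildeD R).map_injective, (DCoh.tildeD R).map_surjective⟩).trans
      (Linear.homCongr A eO (Iso.refl _))
  have hΦ : ∀ {M M' : Dual.D A} (q : Dual.inD A A ⟶ M) (v : M ⟶ M'),
      Φ M' (q ≫ v) = Φ M q ≫ (DCoh.tildeD R).map v := by
    intro M M' q v
    simp [Φ, Linear.homCongr_apply]
  choose jj hjn hjj using fun N : ModuleCat.{u} A =>
    exists_bottom_norm (a.obj ((baseD A).obj N)).obj d (isGE_baseD adj d hvan N)
  obtain ⟨o⟩ := Groth.L29.BCAdj.nonempty_Lpull_OD f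
  -- sections upstairs and downstairs
  let Θ : ∀ V : DCoh.D X, (OD X ⟶ V) ≃ₗ[A] (OD (Spec (CommRingCat.of A)) ⟶ (DCoh.Rpush f).obj V) := fun V =>
    { toFun := fun u => (Groth.L29.BC.adj f).homEquiv _ _ (o.hom ≫ u)
      invFun := fun v => o.inv ≫ ((Groth.L29.BC.adj f).homEquiv _ _).symm v
      left_inv := fun u => by dsimp only; rw [Equiv.symm_apply_apply, o.inv_hom_id_assoc]
      right_inv := fun v => by dsimp only; rw [o.hom_inv_id_assoc, Equiv.apply_symm_apply]
      map_add' := fun a b => by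
        simp only [Adjunction.homEquiv_unit, Functor.map_add, Preadditive.comp_add]
      map_smul' := fun r a => by
        have h2 : ∀ {P Q : DCoh.D X} (v : P ⟶ Q), (DCoh.Rpush f).map (r • v) = r • (DCoh.Rpush f).map v :=
          fun v => Groth.L29.BCAdj.Rpush_smul (RingHom.id A) f hsq r v
        simp only [Adjunction.homEquiv_unit, Linear.comp_smul, h2, RingHom.id_apply] }
  have hΘ : ∀ {V V' : DCoh.D X} (u : OD X ⟶ V) (w : V ⟶ V'), Θ V' (u ≫ w) = Θ V u ≫ (DCoh.Rpush f).map w := by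
    intro V V' u w
    change (Groth.L29.BC.adj f).homEquiv _ _ (o.hom ≫ u ≫ w) = (Groth.L29.BC.adj f).homEquiv _ _ (o.hom ≫ u) ≫ _
    rw [← Category.assoc, Adjunction.homEquiv_naturality_right]
  -- cohomology
  let Sh : X.Modules → DCoh.D X := fun F => (DCoh.inD X F)⟦(d : ℤ)⟧
  let E : ∀ F : X.Modules, (OD X ⟶ Sh F) → Coh.HH X F d := fun F y =>
    ev F d (Ext.homEquiv.symm y)
  have hE : ∀ F, Function.Bijective (E F) := fun F =>
    (ev_bijective d F).comp Ext.homEquiv.symm.bijective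
  have hEnat : ∀ {F G : X.Modules} (g : F ⟶ G) (y : OD X ⟶ Sh F),
      E G (y ≫ ((DerivedCategory.singleFunctor X.Modules 0).map g)⟦(d : ℤ)⟧') = hmap g d (E F y) := by
    intro F G g y
    simp only [E]
    rw [← ev_natural]
    refine congrArg (ev G d) ?_
    apply Ext.homEquiv.injective
    rw [Equiv.apply_symm_apply]
    symm
    refine (Ext.comp_hom _ _ _).trans ?_
    rw [Ext.mk₀_hom]
    refine (ShiftedHom.comp_mk₀ _ _ _ _).trans ?_
    simp only [Ext.hom, Equiv.apply_symm_apply]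
  have hEadd : ∀ F (a b : OD X ⟶ Sh F), E F (a + b) = E F a + E F b := fun F a b => by
    simp only [E]
    rw [← map_add]
    refine congrArg _ ?_
    apply Ext.homEquiv.injective
    rw [Equiv.apply_symm_apply]
    refine Eq.trans ?_ (Ext.add_hom _ _).symm
    simp only [Ext.hom, Equiv.apply_symm_apply]
  let eH : ∀ F, (OD X ⟶ Sh F) ≃ₗ[A] Coh.HH X F d := fun F => LinearEquiv.ofBijective
    { toFun := E F
      map_add' := hEadd F
      map_smul' := fun c y => by
        have h1 : c • y = y ≫ ((DerivedCategory.singleFunctor X.Modules 0).map (c • 𝟙 F))⟦(d : ℤ)⟧' := by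
          rw [Functor.map_smul, CategoryTheory.Functor.map_id, Functor.map_smul, CategoryTheory.Functor.map_id,
            Linear.comp_smul]
          exact congrArg (c • ·) (Category.comp_id y).symm
        rw [h1, hEnat, hmap_smul_id]
        rfl } (hE F)
  -- maps to the twisted inverse image
  let S₀ := DerivedCategory.singleFunctor (ModuleCat.{u} A) 0
  let εε : ∀ N : ModuleCat.{u} A, (DCoh.Rpush f).obj (a.obj ((baseD A).obj N)).obj ⟶
      (DCoh.tildeD R).obj (S₀.obj N) := fun N => (adj.counit.app ((baseD A).obj N)).hom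
  have hqA : ∀ F : X.Modules, Coh.IsQCoh F → DCoh.IsQCohD (Sh F) := fun F hF =>
    Gen.isQCohD_shift (isQCohD_inD F hF) _
  have hΨN : ∀ (N : ModuleCat.{u} A) (F : X.Modules), Coh.IsQCoh F →
      Function.Bijective fun φ : F ⟶ (lowH a d).obj N =>
      (DCoh.Rpush f).map (((DerivedCategory.singleFunctor X.Modules 0).map φ)⟦(d : ℤ)⟧' ≫ jj N) ≫ εε N := by
    intro N F hF
    let W := (baseD A).obj N
    let Q : DCoh.DQCoh X := ⟨Sh F, hqA F hF⟩
    have h1 : Function.Bijective fun v : Sh F ⟶ (a.obj W).obj => (DCoh.Rpush f).map v ≫ εε N := by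
      constructor
      · intro p q hpq
        dsimp only [εε] at hpq
        have := (adj.homEquiv Q W).symm.injective
          (a₁ := ObjectProperty.homMk p) (a₂ := ObjectProperty.homMk q) (ObjectProperty.hom_ext _ (by
            rw [Adjunction.homEquiv_counit, Adjunction.homEquiv_counit]
            exact hpq))
        exact congrArg (fun z : Q ⟶ a.obj W => z.hom) this
      · intro v
        let w : Q ⟶ a.obj W := adj.homEquiv Q W (ObjectProperty.homMk v)
        refine ⟨w.hom, ?_⟩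
        have h2 : ((adj.homEquiv Q W).symm w).hom = v := by
          simp only [w, Equiv.symm_apply_apply]
          rfl
        rw [Adjunction.homEquiv_counit] at h2
        exact h2
    exact h1.comp (hjj N F)
  -- the trace
  let σ : ∀ N : ModuleCat.{u} A, Dual.HD A (S₀.obj N) 0 ≃ₗ[A] N := fun N =>
    ((DerivedCategory.singleFunctorCompHomologyFunctorIso (ModuleCat.{u} A) 0).app N).toLinearEquiv
  let PP : ∀ N : ModuleCat.{u} A, (OD X ⟶ Sh ((lowH a d).obj N)) →ₗ[A] N := fun N =>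
    (σ N).toLinearMap ∘ₗ (Groth.L29.HomD.evalEquiv (S₀.obj N)).toLinearMap ∘ₗ (Φ (S₀.obj N)).symm.toLinearMap ∘ₗ
      Linear.rightComp A _ ((DCoh.Rpush f).map (jj N) ≫ εε N) ∘ₗ (Θ _).toLinearMap
  refine ⟨fun N => PP N ∘ₗ (eH _).symm.toLinearMap, fun N F hF ψ' => ?_, fun {N N'} g z => ?_⟩
  swap
  · obtain ⟨y, rfl⟩ := (eH _).surjective z
    rw [show hmap ((lowH a d).map g) d (eH _ y) =
      eH _ (y ≫ ((DerivedCategory.singleFunctor X.Modules 0).map ((lowH a d).map g))⟦(d : ℤ)⟧') from (hEnat _ y).symm]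
    change PP N' ((eH _).symm (eH _ _)) = g (PP N ((eH _).symm (eH _ _)))
    rw [LinearEquiv.symm_apply_apply, LinearEquiv.symm_apply_apply]
    have hj' : ((DerivedCategory.singleFunctor X.Modules 0).map ((lowH a d).map g))⟦(d : ℤ)⟧' ≫ jj N' =
        jj N ≫ (a.map ((baseD A).map g)).hom := by
      obtain ⟨φ, hφ⟩ := (hjj N' _).2 (jj N ≫ (a.map ((baseD A).map g)).hom)
      dsimp only at hφ
      have h3 := congrArg (homologyFunctor X.Modules (-(d : ℤ))).map hφ
      rw [Functor.map_comp, Functor.map_comp, hjn, hjn, shiftedH_nat, cancel_epi] at h3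
      rw [← hφ, h3]
      rfl
    have hε : (DCoh.Rpush f).map (a.map ((baseD A).map g)).hom ≫ εε N' =
        εε N ≫ (DCoh.tildeD R).map (S₀.map g) :=
      congrArg (fun w => w.hom) (adj.counit.naturality ((baseD A).map g))
    let q : Dual.inD A A ⟶ S₀.obj N := (Φ (S₀.obj N)).symm (Θ _ y ≫ (DCoh.Rpush f).map (jj N) ≫ εε N)
    have hq : (Φ (S₀.obj N')).symm
        (Θ _ (y ≫ ((DerivedCategory.singleFunctor X.Modules 0).map ((lowH a d).map g))⟦(d : ℤ)⟧') ≫
          (DCoh.Rpush f).map (jj N') ≫ εε N') = q ≫ S₀.map g := by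
      refine (Φ (S₀.obj N')).symm_apply_eq.2 ?_
      rw [hΘ, Category.assoc, ← Functor.map_comp_assoc, hj', Functor.map_comp_assoc, hε, hΦ,
        LinearEquiv.apply_symm_apply]
      simp only [Category.assoc]
    change σ N' (Groth.L29.HomD.evalEquiv (S₀.obj N') _) = g (σ N (Groth.L29.HomD.evalEquiv (S₀.obj N) q))
    refine (congrArg (fun w => σ N' (Groth.L29.HomD.evalEquiv (S₀.obj N') w)) hq).trans ?_
    refine (congrArg (σ N') (evalOne_comp q (S₀.map g))).trans ?_
    exact ConcreteCategory.congr_hom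
      ((DerivedCategory.singleFunctorCompHomologyFunctorIso (ModuleCat.{u} A) 0).hom.naturality g) _
  let ω : Dual.D A := S₀.obj N
  haveI : ω.IsGE 0 := inferInstanceAs ((S₀.obj N).IsGE 0)
  let W := (baseD A).obj N
  let j := jj N
  let ε := εε N
  let hΨ := hΨN N
  let P : (OD X ⟶ Sh ((lowH a d).obj N)) →ₗ[A] Dual.HD A ω 0 :=
    (Groth.L29.HomD.evalEquiv ω).toLinearMap ∘ₗ (Φ ω).symm.toLinearMap ∘ₗ
      Linear.rightComp A _ ((DCoh.Rpush f).map j ≫ ε) ∘ₗ (Θ _).toLinearMap
  let ψ : Coh.HH X F d →ₗ[A] Dual.HD A ω 0 := (σ N).symm.toLinearMap ∘ₗ ψ'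
  suffices hP : ∃! φ : F ⟶ (lowH a d).obj N, ∀ z, ψ z = (P ∘ₗ (eH _).symm.toLinearMap) (hmap φ d z) by
    refine (existsUnique_congr fun φ => forall_congr' fun z => ?_).1 hP
    exact (σ N).symm_apply_eq
  -- the direct image of `F[d]`
  have hVq : DCoh.IsQCohD ((DCoh.Rpush f).obj (Sh F)) := h _ (hqA F hF)
  obtain ⟨N, ⟨eN⟩⟩ := (TildeD.isQCohD_iff (R := R) _).1 hVq
  haveI : N.IsLE 0 := (DerivedCategory.isLE_iff N 0).2 fun i hi => by
    letI := Gen.commShiftRpush f
    haveI : (DerivedCategory.TStructure.t (C := X.Modules)).IsLE (DCoh.inD X F) 0 := inferInstance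
    have hz := RpushQC.isZero_HD_Rpush f (d + 1) (fun M hM p hp => by
        haveI := hM
        exact (Groth.Agent.Pic0.subsingleton_HH_iff (R := R) f M p).1 (hvan M hM p hp))
      (DCoh.inD X F) (isQCohD_inD F hF) (show DerivedCategory.IsLE (DCoh.inD X F) 0 by assumption) ((d : ℤ) + i)
      (by push_cast; omega)
    refine (TildeAlg.isZero_hd_iff (R := R) N i).1 ?_
    exact hz.of_iso ((DerivedCategory.homologyFunctor _ i).mapIso
        (eN ≪≫ ((DCoh.Rpush f).commShiftIso (d : ℤ)).app (DCoh.inD X F)) ≪≫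
      Groth.L10.hShiftIso (A := (Spec R).Modules) ((DCoh.Rpush f).obj (DCoh.inD X F)) (d : ℤ) i ((d : ℤ) + i) rfl)
  let l : (Dual.inD A A ⟶ N) →ₗ[A] (Dual.inD A A ⟶ ω) :=
    (Groth.L29.HomD.evalEquiv ω).symm.toLinearMap ∘ₗ ψ ∘ₗ (eH F).toLinearMap ∘ₗ (Θ (Sh F)).symm.toLinearMap ∘ₗ
      (Linear.homCongr A (Iso.refl _) eN).toLinearMap ∘ₗ (Φ N).toLinearMap
  obtain ⟨v, hv, hvu⟩ := existsUnique_hom N ω l
  have key : ∀ (φ : F ⟶ DCoh.HD (a.obj W).obj (-(d : ℤ))) (w : N ⟶ ω),
      (DCoh.Rpush f).map (((DerivedCategory.singleFunctor X.Modules 0).map φ)⟦(d : ℤ)⟧' ≫ j) ≫ ε =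
        eN.inv ≫ (DCoh.tildeD R).map w →
      ((∀ z, ψ z = (P ∘ₗ (eH _).symm.toLinearMap) (hmap φ d z)) ↔ ∀ q : Dual.inD A A ⟶ N, q ≫ w = l q) := by
    intro φ w hw
    have h1 : ∀ y : OD X ⟶ Sh F, (P ∘ₗ (eH _).symm.toLinearMap) (hmap φ d (eH F y)) =
        Groth.L29.HomD.evalEquiv ω ((Φ N).symm (Θ _ y ≫ eN.inv) ≫ w) := by
      intro y
      rw [show hmap φ d (eH F y) = eH _ (y ≫ ((DerivedCategory.singleFunctor X.Modules 0).map φ)⟦(d : ℤ)⟧') from
        (hEnat φ y).symm]
      change P ((eH _).symm (eH _ _)) = _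
      rw [LinearEquiv.symm_apply_apply]
      change Groth.L29.HomD.evalEquiv ω ((Φ ω).symm (Θ _ (y ≫ _) ≫ (DCoh.Rpush f).map j ≫ ε)) = _
      refine congrArg _ ((Φ ω).symm_apply_eq.2 ?_)
      rw [hΘ, Category.assoc, ← Functor.map_comp_assoc, hw, hΦ, LinearEquiv.apply_symm_apply, Category.assoc]
    constructor
    · intro hz q
      apply (Groth.L29.HomD.evalEquiv ω).injective
      have h2 := hz (eH F ((Θ (Sh F)).symm (Φ N q ≫ eN.hom)))
      rw [h1, LinearEquiv.apply_symm_apply, Category.assoc, eN.hom_inv_id, Category.comp_id,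
        LinearEquiv.symm_apply_apply] at h2
      rw [← h2]
      simp [l, Linear.homCongr_apply]
      rfl
    · intro hz z
      obtain ⟨y, rfl⟩ := (eH F).surjective z
      rw [h1, hz]
      simp [l, Linear.homCongr_apply]
      erw [LinearEquiv.apply_symm_apply, Category.assoc, eN.inv_hom_id, Category.comp_id,
        LinearEquiv.symm_apply_apply]
  obtain ⟨φ, hφ⟩ := (hΨ F hF).2 (eN.inv ≫ (DCoh.tildeD R).map v)
  refine ⟨φ, (key φ v hφ).2 hv, fun φ' hφ' => ?_⟩
  obtain ⟨w, hw⟩ := (DCoh.tildeD R).map_surjective (eN.hom ≫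
    (DCoh.Rpush f).map (((DerivedCategory.singleFunctor X.Modules 0).map φ')⟦(d : ℤ)⟧' ≫ j) ≫ ε)
  have hw' : (DCoh.Rpush f).map (((DerivedCategory.singleFunctor X.Modules 0).map φ')⟦(d : ℤ)⟧' ≫ j) ≫ ε =
      eN.inv ≫ (DCoh.tildeD R).map w := by rw [hw, eN.inv_hom_id_assoc]
  obtain rfl := hvu w ((key φ' w hw').1 hφ')
  exact (hΨ F hF).1 (hw'.trans hφ.symm)

end Groth.L10.TopDual
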