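import Groth.Agent.L21.CurveDual.Ext1

/-!
`Ext^n(O, F) = H^n(X, F)` in all degrees.
-/

set_option autoImplicit false
set_option backward.defeqAttrib.useBackward true
set_option backward.isDefEq.respectTransparency false
set_option backward.isDefEq.respectTransparency.types false
universe u

open CategoryTheory CategoryTheory.Limits CategoryTheory.Abelian AlgebraicGeometry Opposite

noncomputable section

namespace Groth.L10.TopDual

open Groth.L21.CurveDual
open Groth.L16.CohLinear (tF tm hmap)
set_option linter.style.haveILetI false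
open Groth.L10.InjTAR (homUnitEquiv homUnitEquiv_comp)

variable {X : Scheme.{u}} [HasExt.{u} X.Modules]

theorem ev_comp_extClass {S : ShortComplex X.Modules} (hS : S.ShortExact) (n : ℕ)
    (z : Ext (Coh.structureModule X) S.X₃ n) :
    ev S.X₁ (n + 1) (z.comp hS.extClass rfl) =
      (ev S.X₃ n z).comp (hS.map_of_exact (tF X)).extClass rfl := by
  change (Ext.mk₀ (unitZ X)).comp ((z.comp hS.extClass rfl).mapExactFunctor (tF X)) (zero_add _) =
    ((Ext.mk₀ (unitZ X)).comp (z.mapExactFunctor (tF X)) (zero_add n)).comp _ _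
  rw [Ext.mapExactFunctor_comp, Ext.mapExactFunctor_extClass]
  exact (Ext.comp_assoc _ _ _ _ _ (by omega)).symm

theorem ev_bijective : ∀ (n : ℕ) (F : X.Modules), Function.Bijective (ev F n) := by
  intro n
  induction n with
  | zero =>
    intro F
    have h : (fun x => ev F 0 (Ext.mk₀ x)) =
        fun x : Coh.structureModule X ⟶ F => Ext.mk₀ (homUnitEquiv X.ringCatSheaf F x) :=
      funext fun x => ev_mk₀ x
    exact (Function.Bijective.of_comp_iff _ (Ext.mk₀_bijective (Coh.structureModule X) F)).1
      (show Function.Bijective (fun x => ev F 0 (Ext.mk₀ x)) from h ▸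
        (Ext.mk₀_bijective _ _).comp (homUnitEquiv X.ringCatSheaf F).bijective)
  | succ n ih =>
    rcases n with _ | m
    · exact Groth.L21.CurveDual.ev_bijective
    intro F
    haveI := Groth.L00.Tensor.grothendieckAbelian_modules X
    let S := ShortComplex.mk (Injective.ι F) (cokernel.π (Injective.ι F)) (cokernel.condition _)
    have hS : S.ShortExact := { exact := ShortComplex.exact_of_g_is_cokernel _ (cokernelIsCokernel _) }
    haveI : Injective S.X₂ := inferInstanceAs (Injective (Injective.under F))
    have hS' := hS.map_of_exact (tF X)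
    have hacy : ∀ q : ℕ, Subsingleton (Ext (ZS X) (S.map (tF X)).X₂ (q + 1)) := fun q =>
      @Equiv.subsingleton _ _ ((Abelian.extFunctor (q + 1)).mapIso (Groth.L10.InjTAR.frPtIso (J := Opens.grothendieckTopology X)).op
        |>.app _ |>.addCommGroupIsoToAddEquiv).toEquiv
        (Groth.L10.InjTAR.isTotallyAcyclic X.ringCatSheaf S.X₂ (Groth.L10.InjTAR.pt (Opens.grothendieckTopology X)) q)
    refine ⟨(injective_iff_map_eq_zero _).2 fun x hx => ?_, fun y => ?_⟩
    · obtain ⟨z, rfl⟩ := Ext.covariant_sequence_exact₁ _ hS x (Ext.eq_zero_of_injective _) rfl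
      replace hx : (ev S.X₃ (m + 1) z).comp hS'.extClass rfl = 0 := (ev_comp_extClass hS _ z).symm.trans hx
      obtain ⟨w, hw⟩ := Ext.covariant_sequence_exact₃ _ hS' _ rfl hx
      haveI := hacy m
      rw [Subsingleton.elim w 0, Ext.zero_comp] at hw
      rw [(injective_iff_map_eq_zero _).1 (ih S.X₃).1 z hw.symm, Ext.zero_comp]
    · haveI := hacy (m + 1)
      obtain ⟨z, hz⟩ := Ext.covariant_sequence_exact₁ _ hS' y (Subsingleton.elim _ _) rfl
      obtain ⟨w, rfl⟩ := (ih S.X₃).2 z
      exact ⟨_, (ev_comp_extClass hS _ w).trans hz⟩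

end Groth.L10.TopDual
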