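import Groth.Agent.L10.TopDual.FieldDual
import Groth.Agent.L13.Nagata.AffineOpen
import Groth.Agent.L21.TopDeg.Model
import Groth.Agent.L17.AffinePush
import Groth.Agent.L16.QcqsPush
import Groth.Agent.L16.Rees.RelVanish
import Groth.Agent.L16.Rees.FibreMonoEpi
import Groth.Agent.L16.CohSupport
import Groth.Agent.L16.CohClosedPush
import Groth.Agent.L13.GGH1
import Groth.Agent.L20.ModStalk
import Groth.Agent.L22.SchemeDim

/-!
Lichtenbaum's theorem on top degree cohomology.
-/

set_option autoImplicit false
set_option backward.defeqAttrib.useBackward true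
set_option backward.isDefEq.respectTransparency false
set_option backward.isDefEq.respectTransparency.types false
set_option linter.style.haveILetI false
universe u

open CategoryTheory CategoryTheory.Limits AlgebraicGeometry TopologicalSpace

noncomputable section

namespace Groth.L10.TopDual

open Groth.L16.CohLinear (hmap)
open Groth.L21.Mod (stalkF stalkF_map_germ)

/-- compactification by an affine dense open immersion, of the same dimension -/
theorem exists_affine_model (k : Type u) [Field k] {X : Scheme.{u}} (f : X ⟶ Spec (CommRingCat.of k))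
    [IsSeparated f] [LocallyOfFiniteType f] [QuasiCompact f] (d : ℕ) (hd : topologicalKrullDim X = d) :
    ∃ (Y : Scheme.{u}) (j : X ⟶ Y) (p : Y ⟶ Spec (CommRingCat.of k)),
      IsOpenImmersion j ∧ IsAffineHom j ∧ IsProper p ∧ j ≫ p = f ∧ topologicalKrullDim Y = d := by
  obtain ⟨Y, j, p, hj, ha, hp, hjp⟩ := Groth.L13.Nagata.exists_affine_compactification f
  haveI := hj; haveI := ha; haveI := hp
  let e : X ≅ (j.opensRange : Scheme.{u}) := j.isoOpensRange
  haveI : IsClosedImmersion e.hom := inferInstance
  obtain ⟨ho, -⟩ := Groth.L13.Nagata.toImage_openImmersion j j.opensRange e.hom (Scheme.Hom.isoOpensRange_hom_ι j)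
  haveI := ho
  haveI : IsProper (j.imageι ≫ p) := inferInstance
  have hc : j.toImage ≫ j.imageι ≫ p = f := by rw [Scheme.Hom.toImage_imageι_assoc, hjp]
  haveI : IsAffineHom j.toImage := MorphismProperty.of_postcomp (W := @IsAffineHom) (W' := @IsSeparated)
    j.toImage j.imageι inferInstance (by rwa [Scheme.Hom.toImage_imageι])
  refine ⟨j.image, j.toImage, j.imageι ≫ p, ho, inferInstance, inferInstance, hc, ?_⟩
  letI : j.image.Over (Spec (CommRingCat.of k)) := ⟨j.imageι ≫ p⟩
  haveI : LocallyOfFiniteType (j.image ↘ Spec (CommRingCat.of k)) :=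
    inferInstanceAs (LocallyOfFiniteType (j.imageι ≫ p))
  haveI : IsLocallyNoetherian X := LocallyOfFiniteType.isLocallyNoetherian f
  haveI : CompactSpace X := QuasiCompact.compactSpace_of_compactSpace f
  haveI : AlgebraicGeometry.IsNoetherian X := {}
  exact le_antisymm ((Groth.L21.TopDeg.dim_le_of_dense k j.toImage).trans hd.le)
    (hd.ge.trans j.toImage.isOpenEmbedding.isEmbedding.isInducing.topologicalKrullDim_le)

set_option maxHeartbeats 800000 in
/-- maps from a direct image along an affine open immersion to a coherent module vanish on the boundary -/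
theorem stalk_map_eq_zero_of_boundary {X Y : Scheme.{u}} [IsLocallyNoetherian Y] (j : X ⟶ Y) [IsOpenImmersion j]
    [IsAffineHom j] (F : X.Modules) {ω : Y.Modules} (hω : Coh.IsCoh ω) (φ : (Coh.push j).obj F ⟶ ω)
    (z : Y) (hz : z ∉ Set.range j) (e : ((Coh.push j).obj F).presheaf.stalk z) :
    (stalkF Y z).map φ e = 0 := by
  let P := (Coh.push j).obj F
  let σ : P.presheaf.stalk z →+ ω.presheaf.stalk z := ((stalkF Y z).map φ).hom
  let N : Submodule (Y.presheaf.stalk z) (ω.presheaf.stalk z) :=
    Submodule.span _ (Set.range fun q : P.presheaf.stalk z => σ q)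
  let I := IsLocalRing.maximalIdeal (Y.presheaf.stalk z)
  suffices hN : N ≤ I • N by
    haveI : Module.Finite (Y.presheaf.stalk z) (ω.presheaf.stalk z) := Groth.L16.Rees.FibreMonoEpi.finite_stalk hω z
    have := Submodule.eq_bot_of_le_smul_of_le_jacobson_bot I N (IsNoetherian.noetherian N) hN
      (IsLocalRing.maximalIdeal_le_jacobson _)
    have he : σ e ∈ N := Submodule.subset_span ⟨e, rfl⟩
    rw [this] at he
    exact (Submodule.mem_bot (R := Y.presheaf.stalk z) (M := ω.presheaf.stalk z) (x := σ e)).1 he
  refine Submodule.span_le.2 ?_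
  rintro _ ⟨q, rfl⟩
  obtain ⟨U, hzU, s₀, rfl⟩ := TopCat.Presheaf.exists_germ_eq P.presheaf q
  obtain ⟨W, hW, hzW, hWU⟩ := (Opens.isBasis_iff_nbhd.mp Y.isBasis_affineOpens) hzU
  have hV : IsAffineOpen (j ⁻¹ᵁ W) := hW.preimage j
  let S : Set Γ(Y, W) := {g | z ∉ Y.basicOpen g}
  have htop : Ideal.span ((j.app W).hom '' S) = ⊤ := by
    refine hV.self_le_iSup_basicOpen_iff.1 fun x hx => ?_
    obtain ⟨g, hg, hxg⟩ := hW.exists_basicOpen_le (V := W ⊓ j.opensRange) ⟨j x, ⟨hx, x, rfl⟩⟩ hx
    have hgS : g ∈ S := fun hzg => hz (hg hzg).2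
    refine Opens.mem_iSup.2 ⟨⟨_, g, hgS, rfl⟩, ?_⟩
    change x ∈ X.basicOpen (j.app W g)
    rw [← Scheme.preimage_basicOpen]
    exact hxg
  let s : Γ(F, j ⁻¹ᵁ W) := P.presheaf.map (homOfLE hWU).op s₀
  have key : ∀ c ∈ Ideal.span ((j.app W).hom '' S), ∀ s : Γ(F, j ⁻¹ᵁ W),
      σ (P.presheaf.germ W z hzW (c • s)) ∈ I • N := by
    intro c hc
    induction hc using Submodule.span_induction with
    | zero =>
      intro s
      rw [zero_smul]
      change σ ((P.presheaf.germ W z hzW) (0 : Γ(P, W))) ∈ _
      rw [map_zero, map_zero]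
      exact zero_mem _
    | add a b _ _ ha hb =>
      intro s
      rw [add_smul]
      change σ ((P.presheaf.germ W z hzW) ((a • s : Γ(P, W)) + (b • s : Γ(P, W)))) ∈ _
      rw [map_add, map_add]
      exact add_mem (ha s) (hb s)
    | smul b a _ ha =>
      intro s
      rw [smul_eq_mul, mul_comm, mul_smul]
      exact ha (b • s)
    | mem c hc =>
      obtain ⟨g, hg, rfl⟩ := hc
      intro s
      let s' : Γ(P, W) := s
      change σ (P.presheaf.germ W z hzW (g • s')) ∈ _
      rw [show σ (P.presheaf.germ W z hzW (g • s')) = _ from stalkF_map_germ φ W z hzW _, Scheme.Modules.Hom.app_smul, Groth.L20.ModStalk.germ_smul]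
      refine Submodule.smul_mem_smul ?_ (Submodule.subset_span ⟨P.presheaf.germ W z hzW s, stalkF_map_germ φ W z hzW s⟩)
      exact (IsLocalRing.mem_maximalIdeal _).2 fun hu => hg ((Scheme.mem_basicOpen Y g z hzW).2 hu)
  have h := key 1 (htop ▸ Submodule.mem_top) s
  rw [one_smul] at h
  change σ (P.presheaf.germ U z hzU s₀) ∈ _
  rw [← TopCat.Presheaf.germ_res_apply P.presheaf (homOfLE hWU) z hzW s₀]
  exact h

/-- Lichtenbaum: no proper component of top dimension kills top cohomology -/
theorem subsingleton_top_of_no_proper (k : Type u) [Field k] {X : Scheme.{u}} (f : X ⟶ Spec (CommRingCat.of k))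
    [IsSeparated f] [LocallyOfFiniteType f] [QuasiCompact f] (d : ℕ) (hd : topologicalKrullDim X = d)
    (hZ : ∀ (Z : Scheme.{u}) (i : Z ⟶ X) [IsClosedImmersion i] [IrreducibleSpace Z],
      topologicalKrullDim Z = d → ¬ IsProper (i ≫ f))
    (M : X.Modules) (hM : Coh.IsQCoh M) : Subsingleton (Coh.HH X M d) := by
  obtain ⟨Y, j, p, hj, ha, hp, hjp, hdY⟩ := exists_affine_model k f d hd
  haveI := hj; haveI := ha; haveI := hp; haveI := hM
  letI : Y.Over (Spec (CommRingCat.of k)) := ⟨p⟩
  haveI : IsProper (Y ↘ Spec (CommRingCat.of k)) := hp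
  haveI : IsLocallyNoetherian Y := LocallyOfFiniteType.isLocallyNoetherian p
  haveI : CompactSpace Y := QuasiCompact.compactSpace_of_compactSpace p
  haveI : AlgebraicGeometry.IsNoetherian Y := {}
  haveI : NoetherianSpace Y.toTopCat := inferInstanceAs (NoetherianSpace ↥Y)
  haveI : QuasiSober Y.toTopCat := inferInstanceAs (QuasiSober ↥Y)
  haveI : T0Space Y.toTopCat := inferInstanceAs (T0Space ↥Y)
  obtain ⟨ω, t, hω, huniv, -⟩ := exists_dual_field k Y d hdY
  haveI : Coh.IsQCoh ω := hω.1
  let P := (Coh.push j).obj M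
  haveI : Coh.IsQCoh P := Groth.L16.QcqsPush.isQCoh_push M j
  obtain ⟨eH⟩ := Groth.L17.nonempty_HH_push_of_isAffineHom j M d
  suffices ∀ x : Coh.HH Y P d, x = 0 from ⟨fun a b => eH.injective ((this _).trans (this _).symm)⟩
  -- the target of every map is supported in `X`, without components of dimension `d`
  have hφ0 : ∀ φ : P ⟶ ω, φ = 0 := by
    intro φ
    let G := Abelian.image φ
    haveI hGq : Coh.IsQCoh G := Groth.L13.GGH1.isQCoh_image φ
    have hG : Coh.IsCoh G := Groth.L16.Rees.RelVanish.isCoh_of_mono (Abelian.image.ι φ) hω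
    let S : Set Y := CohB1.support G
    have hSc : IsClosed S := Groth.L16.CohSupport.isClosed_support G hG.2
    have hSj : S ⊆ Set.range j := fun z hzS => by
      by_contra hz
      refine hzS (subsingleton_of_forall_eq 0 fun w => ?_)
      obtain ⟨v, rfl⟩ := (Groth.L21.Mod.epi_iff_stalk_surjective (Abelian.factorThruImage φ)).1 inferInstance z w
      refine (Groth.L21.Mod.mono_iff_stalk_injective (Abelian.image.ι φ)).1 inferInstance z ?_
      rw [map_zero, ← ConcreteCategory.comp_apply, ← Functor.map_comp, Abelian.image.fac]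
      exact stalk_map_eq_zero_of_boundary j M hω φ z hz v
    -- the dimension of the support
    have hdim : ∀ y ∈ S, topologicalKrullDim (closure ({y} : Set Y)) < (d : WithBot ℕ∞) := by
      intro y hy
      have hC : closure ({y} : Set Y) ⊆ S := hSc.closure_subset_iff.2 (Set.singleton_subset_iff.2 hy)
      let I := Scheme.IdealSheafData.vanishingIdeal (⟨closure {y}, isClosed_closure⟩ : Closeds Y)
      have hr : Set.range I.subschemeι = closure ({y} : Set Y) := by
        rw [Scheme.IdealSheafData.range_subschemeι, Scheme.IdealSheafData.coe_support_vanishingIdeal]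
        rfl
      let l : I.subscheme ⟶ X := IsOpenImmersion.lift j I.subschemeι (hr ▸ hC.trans hSj)
      have hl : l ≫ j = I.subschemeι := IsOpenImmersion.lift_fac _ _ _
      haveI : IsClosedImmersion (l ≫ j) := hl ▸ inferInstance
      haveI : IsClosedImmersion l := IsClosedImmersion.of_comp l j
      haveI : IrreducibleSpace I.subscheme := by
        haveI : Nonempty I.subscheme := by
          obtain ⟨w, -⟩ : y ∈ Set.range I.subschemeι := hr ▸ subset_closure rfl
          exact ⟨w⟩
        have hirr : IsIrreducible (Set.range I.subschemeι) := hr ▸ isIrreducible_singleton.closure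
        haveI : PreirreducibleSpace (Set.range I.subschemeι) := Subtype.preirreducibleSpace hirr.2
        haveI : IrreducibleSpace (Set.range I.subschemeι) := { toNonempty := hirr.1.to_subtype }
        let h := I.subschemeι.isEmbedding.toHomeomorph
        have h1 := (IrreducibleSpace.isIrreducible_univ _).image h.symm h.symm.continuous.continuousOn
        rw [Set.image_univ, h.symm.surjective.range_eq] at h1
        exact (irreducibleSpace_def _).2 h1
      rw [Groth.L22.SchemeDim.topologicalKrullDim_eq_of_isEmbedding I.subschemeι.isEmbedding hr]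
      refine lt_of_le_of_ne (I.subschemeι.isEmbedding.isInducing.topologicalKrullDim_le.trans hdY.le) fun h => ?_
      refine hZ _ l h ?_
      rw [← hjp, ← Category.assoc, hl]
      infer_instance
    have hHG : Subsingleton (Coh.HH Y G d) := by
      rcases Nat.eq_zero_or_pos d with rfl | hd0
      · have hz : IsZero G := (Groth.L21.Mod.isZero_iff_stalk_subsingleton G).2 fun y => by
          by_contra hy
          exact absurd (hdim y hy) (not_lt.2 (Groth.L22.GV.cdim_nonneg (X := Y.toTopCat) y))
        exact AddCommGrpCat.subsingleton_of_isZero (Functor.map_isZero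
          (Groth.L16.CohLinear.tF Y ⋙ Sheaf.functorH _ 0) hz)
      · refine Groth.L22.GV.subsingleton_H_of_dimLE (X := Y.toTopCat) (d - 1) (Coh.toAb G) (fun y hy => ?_) d
          (by omega)
        by_contra hne
        have h1 := hdim y hne
        have h2 : Groth.L22.GV.cdim (X := Y.toTopCat) y ≤ ((d - 1 : ℕ) : WithBot ℕ∞) := by
          change topologicalKrullDim (closure ({y} : Set Y)) ≤ _
          generalize topologicalKrullDim (closure ({y} : Set Y)) = a at h1
          rcases a with _ | _ | a
          · exact bot_le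
          · exact absurd h1 (not_lt.2 le_top)
          · change ((a : ℕ) : WithBot ℕ∞) ≤ _
            change ((a : ℕ) : WithBot ℕ∞) < _ at h1
            norm_cast at h1 ⊢
            omega
        exact absurd hy (not_lt.2 h2)
    have hι : Abelian.image.ι φ = 0 := by
      obtain ⟨φ₀, -, hu⟩ := huniv G hGq 0
      exact (hu _ fun z => by simp [Subsingleton.elim z 0]).trans (hu _ fun z => by simp [Subsingleton.elim z 0]).symm
    rw [← Abelian.image.fac φ, hι, comp_zero]
  intro x
  rw [← Module.forall_dual_apply_eq_zero_iff k x]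
  intro ψ
  obtain ⟨φ, hφ, -⟩ := huniv P inferInstance ψ
  rw [hφ x, hφ0 φ, hmap_zero, map_zero]

/-- the converse: a proper component of top dimension carries a class -/
theorem exists_nontrivial_top (k : Type u) [Field k] {X Z : Scheme.{u}} (f : X ⟶ Spec (CommRingCat.of k))
    [IsLocallyNoetherian X] (i : Z ⟶ X) [IsClosedImmersion i] [IrreducibleSpace Z] [IsProper (i ≫ f)] (d : ℕ)
    (hZ : topologicalKrullDim Z = d) : ∃ M : X.Modules, Coh.IsCoh M ∧ Nontrivial (Coh.HH X M d) := by
  letI : Z.Over (Spec (CommRingCat.of k)) := ⟨i ≫ f⟩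
  haveI : IsProper (Z ↘ Spec (CommRingCat.of k)) := inferInstanceAs (IsProper (i ≫ f))
  obtain ⟨ω, t, hω, huniv, hsupp⟩ := exists_dual_field k Z d hZ
  obtain ⟨z⟩ := (inferInstance : Nonempty Z)
  have hz : Nontrivial (ω.presheaf.stalk z) := by
    refine hsupp.ge (Set.mem_iUnion₂.2 ⟨Set.univ, ⟨?_, ?_⟩, Set.mem_univ z⟩)
    · rw [irreducibleComponents_eq_singleton]; rfl
    · rw [← hZ]
      exact Groth.L22.SchemeDim.topologicalKrullDim_eq_of_isEmbedding Topology.IsEmbedding.id Set.range_id
  have hnt : Nontrivial (Coh.HH Z ω d) := by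
    by_contra h
    rw [not_nontrivial_iff_subsingleton] at h
    obtain ⟨φ₀, -, hu⟩ := huniv ω hω.1 0
    have h01 : 𝟙 ω = 0 := (hu _ fun z => by simp [Subsingleton.elim z 0]).trans
      (hu _ fun z => by simp [Subsingleton.elim z 0]).symm
    exact not_subsingleton_iff_nontrivial.2 hz
      ((Groth.L21.Mod.isZero_iff_stalk_subsingleton ω).1 ((IsZero.iff_id_eq_zero ω).2 h01) z)
  obtain ⟨e⟩ := Groth.L17.nonempty_HH_push_of_isClosedImmersion i ω d
  exact ⟨_, Groth.L16.CohClosedPush.isCoh_push i hω, e.toEquiv.symm.nontrivial⟩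

end Groth.L10.TopDual
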